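import Groth.Agent.L07.ExtShAff.SpecTools

/-!
# The lifting obligations for the spectrum of a Hopf algebra, in terms of rings
-/

universe u

open CategoryTheory CategoryTheory.Limits AlgebraicGeometry Opposite TensorProduct
open MonoidalCategory CartesianMonoidalCategory
open scoped MonObj
open Groth.L07.GaExt (fn fn_comp fn_id)
open Groth.L07.ExtShGa (ofArrows_mem)
open Groth.L08.TorusQuot (SP spA toPt ofPt toPt_post)
open Groth.L25.Bridge (P)
open Algebra.TensorProduct (includeLeft includeRight)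
open WithConv

set_option autoImplicit false
set_option backward.isDefEq.respectTransparency false
set_option backward.isDefEq.respectTransparency.types false
set_option linter.style.haveILetI false
set_option maxHeartbeats 1000000

noncomputable section

namespace Groth.L07.ExtShAff

local notation "Kf" => Scheme.fppfPrecoverage

variable {k : Type u} [Field k] {H : Type u} [CommRing H] [HopfAlgebra k H]

variable {R A : Type u} [CommRing R] [Algebra k R] [CommRing A] [Algebra k A]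

/-- evaluation at a pair of points -/
abbrev ev2 (φ : R →ₐ[k] A) (x y : H →ₐ[k] A) : R ⊗[k] (H ⊗[k] H) →ₐ[k] A :=
  Algebra.TensorProduct.lift φ (Algebra.TensorProduct.lift x y fun _ _ => .all _ _) fun _ _ => .all _ _

/-- evaluation at a point -/
abbrev ev1 (φ : R →ₐ[k] A) (x : H →ₐ[k] A) : R ⊗[k] H →ₐ[k] A :=
  Algebra.TensorProduct.lift φ x fun _ _ => .all _ _

/-- the product of two points -/
abbrev mulPt (x y : H →ₐ[k] A) : H →ₐ[k] A := (toConv x * toConv y).ofConv

/-- the unit point -/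
abbrev onePt : H →ₐ[k] A := (Algebra.ofId k A).comp (Bialgebra.counitAlgHom k H)

variable (k H) in
/-- invertible modules over `R ⊗ H` split near every prime of `R` -/
def RingPic : Prop :=
  ∀ (R : Type u) [CommRing R] [Algebra k R] (N : Type u) [AddCommGroup N] [Module (R ⊗[k] H) N]
    [Module.Invertible (R ⊗[k] H) N] (q : PrimeSpectrum R),
    ∃ (S : Type u) (_ : CommRing S) (_ : Algebra R S) (_ : Algebra k S) (_ : IsScalarTower k R S),
      Module.Flat R S ∧ Algebra.FinitePresentation R S ∧ q ∈ Set.range (PrimeSpectrum.comap (algebraMap R S)) ∧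
      (letI : Algebra (R ⊗[k] H) (S ⊗[k] H) :=
          (Algebra.TensorProduct.map (IsScalarTower.toAlgHom k R S) (AlgHom.id k H)).toRingHom.toAlgebra
       Nonempty ((S ⊗[k] H) ⊗[R ⊗[k] H] N ≃ₗ[S ⊗[k] H] S ⊗[k] H))

variable (k H) in
/-- symmetric normalised cocycles over `R` are coboundaries over an fppf algebra -/
def RingCocycle : Prop :=
  ∀ (R : Type u) [CommRing R] [Algebra k R] (h : (R ⊗[k] (H ⊗[k] H))ˣ),
    (∀ (A : Type u) [CommRing A] [Algebra k A] (φ : R →ₐ[k] A) (x y : H →ₐ[k] A), ev2 φ x y h = ev2 φ y x h) →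
    (∀ (A : Type u) [CommRing A] [Algebra k A] (φ : R →ₐ[k] A) (x : H →ₐ[k] A), ev2 φ onePt x h = 1) →
    (∀ (A : Type u) [CommRing A] [Algebra k A] (φ : R →ₐ[k] A) (x y z : H →ₐ[k] A),
      ev2 φ x y h * ev2 φ (mulPt x y) z h = ev2 φ y z h * ev2 φ x (mulPt y z) h) →
    ∃ (S : Type u) (_ : CommRing S) (_ : Algebra R S) (_ : Algebra k S) (_ : IsScalarTower k R S),
      Module.Flat R S ∧ Algebra.FinitePresentation R S ∧
      Function.Surjective (PrimeSpectrum.comap (algebraMap R S)) ∧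
      ∃ f : (S ⊗[k] H)ˣ, ∀ (A : Type u) [CommRing A] [Algebra k A] (φ : S →ₐ[k] A) (x y : H →ₐ[k] A),
        ev2 (φ.comp (IsScalarTower.toAlgHom k R S)) x y h * (ev1 φ x f * ev1 φ y f) = ev1 φ (mulPt x y) f

theorem toPt_eq_spA (x : H →ₐ[k] A) : (toPt (toConv x) : SP k A ⟶ P k H) = spA x := rfl

theorem toPt_mulPt (x y : H →ₐ[k] A) :
    toPt (toConv x) * toPt (toConv y) = (toPt (toConv (mulPt x y)) : SP k A ⟶ P k H) :=
  (map_mul Spec.mapMulEquiv _ _).symm

theorem toPt_onePt : (1 : SP k A ⟶ P k H) = toPt (toConv onePt) :=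
  (map_one (Spec.mapMulEquiv (R := k) (S := H) (T := A))).symm

/-- flat finitely presented algebras give flat finitely presented morphisms -/
theorem flat_fp_specMap {S : Type u} [CommRing S] [Algebra R S] (h₁ : Module.Flat R S)
    (h₂ : Algebra.FinitePresentation R S) :
    Flat (Spec.map (CommRingCat.ofHom (algebraMap R S))) ∧
      LocallyOfFinitePresentation (Spec.map (CommRingCat.ofHom (algebraMap R S))) := by
  constructor
  · rw [HasRingHomProperty.Spec_iff (P := @Flat)]
    exact RingHom.flat_algebraMap_iff.2 h₁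
  · rw [HasRingHomProperty.Spec_iff (P := @LocallyOfFinitePresentation)]
    exact RingHom.finitePresentation_algebraMap.2 h₂

theorem splitsPic_of_ring [Coalgebra.IsCocomm k H] (hyp : RingPic k H) : SplitsPic (P k H) := by
  intro X hX L hL
  obtain ⟨R, _, _, ⟨e⟩⟩ := exists_SP X hX
  let jX : SP k (R ⊗[k] H) ⟶ X ⊗ P k H := prodSP k R H ≫ (e.hom ▷ P k H)
  obtain ⟨N, _, _, hN, hsplit⟩ := exists_module ((Scheme.Modules.pullback jX.left).obj L)
    (Groth.L18.Ample.isInvertible_pullback _ hL)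
  choose S hS₁ hS₂ hS₃ hS₄ hflat hfp hq htriv using fun q => hyp R N q
  let a : ∀ q, SP k (S q) ⟶ X := fun q => spA (IsScalarTower.toAlgHom k R (S q)) ≫ e.hom
  haveI : IsIso e.hom.left := inferInstanceAs (IsIso ((Over.forget _).map e.hom))
  haveI : ∀ q, Flat (Spec.map (CommRingCat.ofHom (algebraMap R (S q)))) := fun q =>
    (flat_fp_specMap (hflat q) (hfp q)).1
  haveI : ∀ q, LocallyOfFinitePresentation (Spec.map (CommRingCat.ofHom (algebraMap R (S q)))) := fun q =>
    (flat_fp_specMap (hflat q) (hfp q)).2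
  refine ⟨_, ofArrows_mem (fun q => SP k (S q)) a
    (fun q => inferInstanceAs (Flat (Spec.map (CommRingCat.ofHom (algebraMap R (S q))) ≫ e.hom.left)))
    (fun q => inferInstanceAs (LocallyOfFinitePresentation
      (Spec.map (CommRingCat.ofHom (algebraMap R (S q))) ≫ e.hom.left))) (fun x => ?_), ?_⟩
  · obtain ⟨y, hy⟩ := hq (e.inv.left x)
    refine ⟨_, y, ?_⟩
    show e.hom.left (PrimeSpectrum.comap (algebraMap R _) y) = x
    rw [hy, ← Scheme.Hom.comp_apply, ← Over.comp_left, e.inv_hom_id]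
    rfl
  · rintro X' _ ⟨_, d, _, ⟨q⟩, rfl⟩
    letI : Algebra (R ⊗[k] H) (S q ⊗[k] H) :=
      (Algebra.TensorProduct.map (IsScalarTower.toAlgHom k R (S q)) (AlgHom.id k H)).toRingHom.toAlgebra
    obtain ⟨t⟩ := hsplit (S q ⊗[k] H) (htriv q)
    let j := prodSP k (S q) H
    haveI : IsIso j.left := inferInstanceAs (IsIso ((Over.forget _).map j))
    have hsq : (d ▷ P k H) ≫ inv j ≫ spA (Algebra.TensorProduct.map (IsScalarTower.toAlgHom k R (S q)) (AlgHom.id k H)) ≫ jX =
        (d ≫ a q) ▷ P k H := by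
      show _ ≫ _ ≫ spA _ ≫ prodSP k R H ≫ _ = _
      rw [← Category.assoc (spA _), prodSP_whisker, Category.assoc, IsIso.inv_hom_id_assoc, ← comp_whiskerRight,
        ← comp_whiskerRight]
    let κ : (X' ⊗ P k H).left ⟶ (SP k (S q ⊗[k] H)).left := ((d ▷ P k H) ≫ inv j).left
    exact ⟨(Scheme.Modules.pullbackCongr (congrArg CommaMorphism.left hsq).symm).app L ≪≫
      ((Scheme.Modules.pullbackComp κ
        (Spec.map (CommRingCat.ofHom (algebraMap (R ⊗[k] H) (S q ⊗[k] H))) ≫ jX.left)).app L).symm ≪≫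
      (Scheme.Modules.pullback κ).mapIso (((Scheme.Modules.pullbackComp
        (Spec.map (CommRingCat.ofHom (algebraMap (R ⊗[k] H) (S q ⊗[k] H)))) jX.left).app L).symm ≪≫ t) ≪≫
      PicLoc.pullbackStructureIso κ⟩

variable (k H R) in
/-- the affine model of `R × H × H` -/
def prod2 : SP k (R ⊗[k] (H ⊗[k] H)) ⟶ SP k R ⊗ (P k H ⊗ P k H) :=
  prodSP k R (H ⊗[k] H) ≫ (SP k R ◁ prodSP k H H)

instance : IsIso (prod2 k H R) := by
  unfold prod2
  infer_instance

theorem lift2_eq (φ : R →ₐ[k] A) (x y : H →ₐ[k] A) :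
    lift (spA φ) (lift (toPt (toConv x)) (toPt (toConv y))) = spA (ev2 φ x y) ≫ prod2 k H R := by
  refine CartesianMonoidalCategory.hom_ext _ _ ?_ ?_
  · rw [lift_fst, prod2, Category.assoc, Category.assoc, whiskerLeft_fst, prodSP_fst, spA_comp,
      Algebra.TensorProduct.lift_comp_includeLeft]
  · rw [lift_snd, prod2, Category.assoc, Category.assoc, whiskerLeft_snd, ← Category.assoc (prodSP k R _), prodSP_snd]
    refine CartesianMonoidalCategory.hom_ext _ _ ?_ ?_
    · rw [lift_fst, Category.assoc, Category.assoc, prodSP_fst, spA_comp, spA_comp, toPt_eq_spA]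
      exact congrArg spA (AlgHom.ext fun a => by simp)
    · rw [lift_snd, Category.assoc, Category.assoc, prodSP_snd, spA_comp, spA_comp, toPt_eq_spA]
      exact congrArg spA (AlgHom.ext fun a => by simp)

theorem lift1_eq (φ : R →ₐ[k] A) (x : H →ₐ[k] A) :
    lift (spA φ) (toPt (toConv x) : SP k A ⟶ P k H) = spA (ev1 φ x) ≫ prodSP k R H := by
  refine CartesianMonoidalCategory.hom_ext _ _ ?_ ?_
  · rw [lift_fst, Category.assoc, prodSP_fst, spA_comp, Algebra.TensorProduct.lift_comp_includeLeft]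
  · rw [lift_snd, Category.assoc, prodSP_snd, spA_comp, toPt_eq_spA]
    exact congrArg spA (AlgHom.ext fun a => by simp)

theorem val2_toPt {X : Over (Spec (CommRingCat.of k))} (e : SP k R ⟶ X) (h : Γ((X ⊗ (P k H ⊗ P k H)).left, ⊤)ˣ)
    (u : (R ⊗[k] (H ⊗[k] H))ˣ)
    (hu : Units.map (em _).toMonoidHom u = Units.map (fn (prod2 k H R ≫ (e ▷ _))).hom.toMonoidHom h)
    (φ : R →ₐ[k] A) (x y : H →ₐ[k] A) :
    val2 h (spA φ ≫ e) (toPt (toConv x)) (toPt (toConv y)) = Units.map (em A).toMonoidHom (Units.map (ev2 φ x y).toMonoidHom u) := by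
  refine Units.ext ?_
  show fn _ (Units.val h) = em A (ev2 φ x y u)
  rw [← fn_spA, show em (R ⊗[k] (H ⊗[k] H)) u = fn (prod2 k H R ≫ (e ▷ _)) (Units.val h) from congrArg Units.val hu,
    ← fn_comp, ← Category.assoc, ← lift2_eq, lift_whiskerRight]

theorem splitsCocycle_of_ring [Coalgebra.IsCocomm k H] (hyp : RingCocycle k H) : SplitsCocycle (P k H) := by
  intro X hX h hsym hnorm hcoc
  obtain ⟨R, _, _, ⟨e⟩⟩ := exists_SP X hX
  obtain ⟨u, hu⟩ := exists_unit_eq (Units.map (fn (prod2 k H R ≫ (e.hom ▷ (P k H ⊗ P k H)))).hom.toMonoidHom h)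
  have hval := fun (A : Type u) [CommRing A] [Algebra k A] (φ : R →ₐ[k] A) (x y : H →ₐ[k] A) =>
    val2_toPt e.hom h u hu φ x y
  have heq : ∀ {A : Type u} [CommRing A] [Algebra k A] {a b : A},
      em (k := k) A a = em A b → a = b := fun {A} _ _ {a b} hab => em_bijective.1 hab
  obtain ⟨S, _, _, _, _, hflat, hfp, hsurj, f, hf⟩ := hyp R u
    (fun A _ _ φ x y => heq <| by
      have := congrArg Units.val (hsym _ (spA φ ≫ e.hom) (toPt (toConv x)) (toPt (toConv y)))
      rwa [hval A φ x y, hval A φ y x] at this)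
    (fun A _ _ φ x => heq <| by
      have := congrArg Units.val (hnorm _ (spA φ ≫ e.hom) (toPt (toConv x)))
      rw [toPt_onePt, hval A φ onePt x] at this
      exact this.trans (map_one _).symm)
    (fun A _ _ φ x y z => heq <| by
      have := congrArg Units.val (hcoc _ (spA φ ≫ e.hom) (toPt (toConv x)) (toPt (toConv y)) (toPt (toConv z)))
      rw [toPt_mulPt, toPt_mulPt, hval A φ x y, hval A φ y z, hval A φ (mulPt x y) z, hval A φ x (mulPt y z)] at this
      rw [map_mul, map_mul]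
      exact this)
  let a : SP k S ⟶ X := spA (IsScalarTower.toAlgHom k R S) ≫ e.hom
  haveI : IsIso e.hom.left := inferInstanceAs (IsIso ((Over.forget _).map e.hom))
  haveI : Flat (Spec.map (CommRingCat.ofHom (algebraMap R S))) := (flat_fp_specMap hflat hfp).1
  haveI : LocallyOfFinitePresentation (Spec.map (CommRingCat.ofHom (algebraMap R S))) := (flat_fp_specMap hflat hfp).2
  refine ⟨_, ofArrows_mem (κ := PUnit.{1}) (fun _ => SP k S) (fun _ => a)
    (fun _ => inferInstanceAs (Flat (Spec.map (CommRingCat.ofHom (algebraMap R S)) ≫ e.hom.left)))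
    (fun _ => inferInstanceAs (LocallyOfFinitePresentation
      (Spec.map (CommRingCat.ofHom (algebraMap R S)) ≫ e.hom.left))) (fun x => ?_), ?_⟩
  · obtain ⟨y, hy⟩ := hsurj (e.inv.left x)
    refine ⟨PUnit.unit, y, ?_⟩
    show e.hom.left (PrimeSpectrum.comap (algebraMap R _) y) = x
    rw [hy, ← Scheme.Hom.comp_apply, ← Over.comp_left, e.inv_hom_id]
    rfl
  rintro X' _ ⟨_, d, _, ⟨⟩, rfl⟩
  let j := prodSP k S H
  let fS : Γ((SP k S ⊗ P k H).left, ⊤)ˣ := Units.map (fn (inv j)).hom.toMonoidHom (Units.map (em _).toMonoidHom f)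
  refine ⟨Units.map (fn (d ▷ P k H)).hom.toMonoidHom fS, fun W b g g' => ?_⟩
  have hd : ∀ (g : W ⟶ P k H), val1 (Units.map (fn (d ▷ P k H)).hom.toMonoidHom fS) b g = val1 fS (b ≫ d) g :=
    fun g => Units.ext (by
      show fn _ (fn _ (Units.val fS)) = fn _ (Units.val fS)
      rw [← fn_comp, lift_whiskerRight])
  rw [hd, hd, hd, ← Category.assoc]
  generalize b ≫ d = c
  let t : W ⟶ SP k (S ⊗[k] (H ⊗[k] H)) := lift c (lift g g') ≫ inv (prod2 k H S)
  let A₀ := S ⊗[k] (H ⊗[k] H)
  let φ₀ : S →ₐ[k] A₀ := includeLeft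
  let x₀ : H →ₐ[k] A₀ := (includeRight : H ⊗[k] H →ₐ[k] A₀).comp includeLeft
  let y₀ : H →ₐ[k] A₀ := (includeRight : H ⊗[k] H →ₐ[k] A₀).comp includeRight
  have hid : ev2 φ₀ x₀ y₀ = AlgHom.id k A₀ := by
    refine Algebra.TensorProduct.ext (AlgHom.ext fun s => by simp [φ₀]; rfl)
      (Algebra.TensorProduct.ext (AlgHom.ext fun s => by simp [x₀]; rfl) (AlgHom.ext fun s => by simp [y₀]; rfl))
  have hlift : lift c (lift g g') = t ≫ lift (spA φ₀) (lift (toPt (toConv x₀)) (toPt (toConv y₀))) := by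
    rw [lift2_eq, hid, show spA (AlgHom.id k A₀) = 𝟙 _ from Over.OverMorphism.ext (Spec.map_id _), Category.id_comp]
    simp [t]
  have hc : c = t ≫ spA φ₀ := by
    have := congrArg (· ≫ fst _ _) hlift
    simpa using this
  have hg : g = t ≫ toPt (toConv x₀) := by
    have := congrArg (fun m => (m ≫ snd _ _) ≫ fst _ _) hlift
    simpa using this
  have hg' : g' = t ≫ toPt (toConv y₀) := by
    have := congrArg (fun m => (m ≫ snd _ _) ≫ snd _ _) hlift
    simpa using this
  have hv1 : ∀ (z : H →ₐ[k] A₀), val1 fS (t ≫ spA φ₀) (t ≫ toPt (toConv z)) =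
      Units.map (fn t).hom.toMonoidHom (Units.map (em A₀).toMonoidHom (Units.map (ev1 φ₀ z).toMonoidHom f)) :=
    fun z => Units.ext (by
      show fn _ (fn (inv j) (em _ (f : S ⊗[k] H))) = fn t (em A₀ (ev1 φ₀ z f))
      rw [← comp_lift, ← fn_comp, Category.assoc, lift1_eq, Category.assoc, Category.assoc, show prodSP k S H ≫ inv j = 𝟙 _ from IsIso.hom_inv_id j, Category.comp_id,
        fn_comp, fn_comp, fn_spA, ← fn_comp])
  have hv2 : val2 h ((t ≫ spA φ₀) ≫ a) (t ≫ toPt (toConv x₀)) (t ≫ toPt (toConv y₀)) = Units.map (fn t).hom.toMonoidHom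
      (Units.map (em A₀).toMonoidHom (Units.map (ev2 (φ₀.comp (IsScalarTower.toAlgHom k R S)) x₀ y₀).toMonoidHom u)) := by
    rw [← hval A₀ (φ₀.comp (IsScalarTower.toAlgHom k R S)) x₀ y₀]
    refine Units.ext ?_
    show fn _ (Units.val h) = fn t (fn _ (Units.val h))
    rw [← fn_comp, comp_lift, comp_lift, ← spA_comp]
    simp only [a, Category.assoc]
    rfl
  rw [hc, hg, hg', hv2, hv1, hv1, ← MonObj.comp_mul, toPt_mulPt, hv1, ← map_mul, ← map_mul, ← map_mul,
    ← map_mul]
  exact congrArg _ (congrArg _ (Units.ext (hf A₀ φ₀ x₀ y₀)))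

/-- the lifting criterion for the spectrum of a Hopf algebra -/
theorem liftsLoc_of_ring [Coalgebra.IsCocomm k H] (h₁ : RingPic k H) (h₂ : RingCocycle k H) :
    LiftsLoc (CGrpSh.pts Kf (P k H)) :=
  liftsLoc_of_splits (splitsPic_of_ring h₁) (splitsCocycle_of_ring h₂)

end Groth.L07.ExtShAff
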