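import Groth.Agent.L07.ExtShAff.Twist
import Groth.Agent.L25.LargestMult.Main
import Groth.Agent.L25.LargestMult.Indep
import Mathlib.FieldTheory.IntermediateField.Adjoin.Basic
import Mathlib.FieldTheory.IsAlgClosed.AlgebraicClosure
import Mathlib.RingTheory.HopfAlgebra.MonoidAlgebra
import Mathlib.RingTheory.HopfAlgebra.TensorProduct
import Mathlib.RingTheory.TensorProduct.MonoidAlgebra

/-!
# Hopf algebras without primitive elements
-/

universe u

open CategoryTheory AlgebraicGeometry TensorProduct
open Groth.L25.Bridge (P)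
open Groth.L25.LargestMult (N comp)
open Groth.L01.SmoothKer (IsPrim)
open Algebra.TensorProduct (includeLeft includeRight)
open WithConv

set_option autoImplicit false
set_option backward.isDefEq.respectTransparency false
set_option backward.isDefEq.respectTransparency.types false
set_option linter.style.haveILetI false
set_option maxHeartbeats 1000000
set_option synthInstance.maxHeartbeats 200000
set_option maxSynthPendingDepth 6

noncomputable section

namespace Groth.L07.ExtShAff

local notation "Kf" => Scheme.fppfPrecoverage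

variable {k : Type u} [Field k] {A : Type u} [CommRing A] [HopfAlgebra k A]

/-- without primitives the unipotent component is the scalars -/
theorem N_le_one (hprim : ∀ g : A, IsPrim (k := k) g → g = 0) : ∀ n, N k A n ≤ Submodule.span k {(1 : A)}
  | 0 => by simp [N]
  | n + 1 => fun a ha => by
    obtain ⟨z, hz⟩ := Groth.L25.LargestMult.mem_N_succ_iff.1 ha
    have hb : ∀ w : N k A n ⊗[k] A, ∃ b : A, (N k A n).subtype.rTensor A w = (1 : A) ⊗ₜ b := fun w => by
      induction w using TensorProduct.induction_on with
      | zero => exact ⟨0, by simp⟩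
      | tmul x y =>
        obtain ⟨c, hc⟩ := Submodule.mem_span_singleton.1 (N_le_one hprim n x.2)
        refine ⟨c • y, ?_⟩
        rw [LinearMap.rTensor_tmul, Submodule.subtype_apply, ← hc, TensorProduct.smul_tmul]
      | add x y hx hy =>
        obtain ⟨b, hb⟩ := hx
        obtain ⟨b', hb'⟩ := hy
        exact ⟨b + b', by rw [map_add, hb, hb', TensorProduct.tmul_add]⟩
    obtain ⟨b, hb⟩ := hb z
    rw [hz] at hb
    have hb' : b = a - algebraMap k A (Coalgebra.counit (R := k) a) := by
      have h := congrArg (fun w => TensorProduct.lid k A ((Coalgebra.counit (R := k) (A := A)).rTensor A w)) hb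
      simp only [map_sub, Coalgebra.rTensor_counit_comul, LinearMap.rTensor_tmul, TensorProduct.lid_tmul,
        Bialgebra.counit_one, one_smul] at h
      rw [Algebra.algebraMap_eq_smul_one]
      exact h.symm
    rw [hb', sub_eq_iff_eq_add] at hb
    have : a - algebraMap k A (Coalgebra.counit (R := k) a) = 0 := by
      refine hprim _ ?_
      show Coalgebra.comul (R := k) _ = _
      rw [map_sub, hb, Bialgebra.comul_algebraMap, Algebra.algebraMap_eq_smul_one, Algebra.algebraMap_eq_smul_one,
        Algebra.TensorProduct.one_def, TensorProduct.sub_tmul, TensorProduct.tmul_sub, TensorProduct.smul_tmul',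
        TensorProduct.tmul_smul, TensorProduct.smul_tmul']
      abel
    rw [sub_eq_zero.1 this, Algebra.algebraMap_eq_smul_one]
    exact Submodule.smul_mem _ _ (Submodule.mem_span_singleton_self 1)

variable [Coalgebra.IsCocomm k A]

/-- over an algebraic closure the group-likes span -/
theorem span_groupLike_eq_top (hprim : ∀ g : A, IsPrim (k := k) g → g = 0) :
    Submodule.span (AlgebraicClosure k)
      {z : AlgebraicClosure k ⊗[k] A | IsGroupLikeElem (AlgebraicClosure k) z} = ⊤ := by
  set K := AlgebraicClosure k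
  have hcomp : ∀ y ∈ comp K (K ⊗[k] A), ∃ c : K, y = c • (1 : K ⊗[k] A) := fun y hy => by
    obtain ⟨n, hn⟩ := Groth.L25.LargestMult.mem_comp.1 hy
    have h := Submodule.baseChange_mono K (N_le_one hprim n) (Groth.L25.LargestMult.N_baseChange_le n hn)
    rw [Submodule.baseChange_span, Set.image_singleton] at h
    obtain ⟨c, hc⟩ := Submodule.mem_span_singleton.1 h
    exact ⟨c, hc.symm⟩
  rw [eq_top_iff]
  rintro x -
  obtain ⟨f, rfl⟩ := Groth.L25.LargestMult.dec_surjective (k := K) x
  induction f using Finsupp.induction_linear with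
  | zero => rw [map_zero]; exact zero_mem _
  | add a b ha hb => rw [map_add]; exact add_mem ha hb
  | single g b =>
    obtain ⟨c, hc⟩ := hcomp _ b.2
    rw [Groth.L25.LargestMult.dec_single, hc, mul_smul_comm, mul_one]
    exact Submodule.smul_mem _ _ (Submodule.subset_span g.isGroupLikeElem_val)

/-- the base change maps of scalar extensions -/
abbrev scMap {K : Type u} [Field K] [Algebra k K] (k' : IntermediateField k K) (V : Type u) [CommRing V] [Algebra k V] :
    k' ⊗[k] V →ₐ[k] K ⊗[k] V :=
  Algebra.TensorProduct.map k'.val (AlgHom.id k V)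

theorem scMap_injective {K : Type u} [Field K] [Algebra k K] (k' : IntermediateField k K) (V : Type u) [CommRing V]
    [Algebra k V] : Function.Injective (scMap k' V) :=
  TensorProduct.map_injective_of_flat_flat k'.val.toLinearMap (LinearMap.id : V →ₗ[k] V) Subtype.val_injective
    Function.injective_id

theorem scMap_smul {K : Type u} [Field K] [Algebra k K] (k' : IntermediateField k K) {V : Type u} [CommRing V]
    [Algebra k V] (c : k') (z : k' ⊗[k] V) : scMap k' V (c • z) = (c : K) • scMap k' V z := by
  induction z using TensorProduct.induction_on with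
  | zero => simp
  | tmul s v => simp [TensorProduct.smul_tmul']
  | add x y hx hy => rw [smul_add, map_add, map_add, hx, hy, smul_add]

/-- finitely many elements of a scalar extension are defined over a finite extension -/
theorem exists_intermediateField {K : Type u} [Field K] [Algebra k K] [Algebra.IsAlgebraic k K] {V : Type u} [CommRing V]
    [Algebra k V] (Z : Finset (K ⊗[k] V)) :
    ∃ k' : IntermediateField k K, FiniteDimensional k k' ∧ ∀ z ∈ Z, z ∈ (scMap k' V).range := by
  classical
  choose S hS using fun z : K ⊗[k] V => TensorProduct.exists_finset z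
  let T : Finset K := Z.biUnion fun z => (S z).image Prod.fst
  refine ⟨IntermediateField.adjoin k (T : Set K),
    IntermediateField.finiteDimensional_adjoin fun x _ => (Algebra.IsAlgebraic.isAlgebraic x).isIntegral, fun z hz => ?_⟩
  rw [hS z]
  refine Subalgebra.sum_mem _ fun i hi => ?_
  exact ⟨⟨i.1, IntermediateField.subset_adjoin k _ (Finset.mem_biUnion.2 ⟨z, hz, Finset.mem_image_of_mem _ hi⟩)⟩ ⊗ₜ i.2,
    rfl⟩

/-- the comultiplication of a scalar extension at a group-like element -/
theorem map_comul_groupLike {K : Type u} [Field K] [Algebra k K] {z : K ⊗[k] A} (hz : IsGroupLikeElem K z) :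
    Algebra.TensorProduct.map (AlgHom.id k K) (Bialgebra.comulAlgHom k A) z =
      Algebra.TensorProduct.map (AlgHom.id k K) (includeLeft : A →ₐ[k] A ⊗[k] A) z *
        Algebra.TensorProduct.map (AlgHom.id k K) (includeRight : A →ₐ[k] A ⊗[k] A) z := by
  let L : K ⊗[k] A →ₐ[K] K ⊗[k] (A ⊗[k] A) :=
    Algebra.TensorProduct.map (AlgHom.id K K) (includeLeft : A →ₐ[k] A ⊗[k] A)
  let R : K ⊗[k] A →ₐ[K] K ⊗[k] (A ⊗[k] A) :=
    Algebra.TensorProduct.map (AlgHom.id K K) (includeRight : A →ₐ[k] A ⊗[k] A)
  let Θ : (K ⊗[k] A) ⊗[K] (K ⊗[k] A) →ₐ[K] K ⊗[k] (A ⊗[k] A) :=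
    Algebra.TensorProduct.lift L R fun _ _ => .all _ _
  have h : ∀ w : K ⊗[k] A, Θ (Coalgebra.comul (R := K) w) =
      Algebra.TensorProduct.map (AlgHom.id k K) (Bialgebra.comulAlgHom k A) w := fun w => by
    induction w using TensorProduct.induction_on with
    | zero => simp
    | add x y hx hy => rw [map_add, map_add, map_add, hx, hy]
    | tmul s a =>
      rw [TensorProduct.comul_tmul, CommSemiring.comul_apply, Algebra.TensorProduct.map_tmul]
      show _ = s ⊗ₜ[k] Coalgebra.comul (R := k) a
      induction Coalgebra.comul (R := k) a using TensorProduct.induction_on with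
      | zero => simp
      | add x y hx hy => rw [TensorProduct.tmul_add, TensorProduct.tmul_add, map_add, map_add, hx, hy]
      | tmul x y => simp [Θ, L, R]
  rw [← h z, hz.comul_eq_tmul_self]
  rfl

theorem lift_incl_eq_id : Algebra.TensorProduct.lift (includeLeft : A →ₐ[k] A ⊗[k] A) includeRight
    (fun _ _ => Commute.all _ _) = AlgHom.id k (A ⊗[k] A) :=
  Algebra.TensorProduct.lift_includeLeft_includeRight

omit [Coalgebra.IsCocomm k A] in
theorem mulPt_groupLike {R : Type u} [CommRing R] [Algebra k R] {g : A} (hg : IsGroupLikeElem k g)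
    (x y : A →ₐ[k] R) : mulPt x y g = x g * y g := by
  show (Algebra.TensorProduct.lmul' k) (Algebra.TensorProduct.map x y (Coalgebra.comul (R := k) g)) = _
  rw [hg.comul_eq_tmul_self]
  simp

/-- a family of elements that become group-like gives a multiplicative twisted map -/
theorem twist_hmul {K : Type u} [Field K] [Algebra k K] (k' : IntermediateField k K) {M : Type u} [CommGroup M]
    (val : M →* k' ⊗[k] A) (hval : ∀ m, IsGroupLikeElem K (scMap k' A (val m))) :
    (ev1 includeLeft (mulPt ((includeRight : A ⊗[k] A →ₐ[k] k' ⊗[k] (A ⊗[k] A)).comp includeLeft)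
        ((includeRight : A ⊗[k] A →ₐ[k] k' ⊗[k] (A ⊗[k] A)).comp includeRight))).comp
      (MonoidAlgebra.lift k _ M val) =
      mulPt ((ev1 includeLeft ((includeRight : A ⊗[k] A →ₐ[k] k' ⊗[k] (A ⊗[k] A)).comp includeLeft)).comp
          (MonoidAlgebra.lift k _ M val))
        ((ev1 includeLeft ((includeRight : A ⊗[k] A →ₐ[k] k' ⊗[k] (A ⊗[k] A)).comp includeRight)).comp
          (MonoidAlgebra.lift k _ M val)) := by
  have key : ∀ (g : A →ₐ[k] A ⊗[k] A) (w : k' ⊗[k] A),
      scMap k' (A ⊗[k] A) (ev1 includeLeft (includeRight.comp g) w) =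
        Algebra.TensorProduct.map (AlgHom.id k K) g (scMap k' A w) := fun g w => by
    induction w using TensorProduct.induction_on with
    | zero => simp
    | tmul x y => simp
    | add x y hx hy => rw [map_add, map_add, hx, hy, map_add, map_add]
  have hΔ : mulPt ((includeRight : A ⊗[k] A →ₐ[k] k' ⊗[k] (A ⊗[k] A)).comp includeLeft)
      ((includeRight : A ⊗[k] A →ₐ[k] k' ⊗[k] (A ⊗[k] A)).comp includeRight) =
        (includeRight : A ⊗[k] A →ₐ[k] k' ⊗[k] (A ⊗[k] A)).comp (Bialgebra.comulAlgHom k A) := AlgHom.ext fun a => by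
    show (Algebra.TensorProduct.lmul' k) (Algebra.TensorProduct.map _ _ (Coalgebra.comul (R := k) a)) =
      includeRight (Coalgebra.comul (R := k) a)
    induction Coalgebra.comul (R := k) a using TensorProduct.induction_on with
    | zero => simp
    | tmul x y => simp
    | add x y hx hy => rw [map_add, map_add, map_add, hx, hy]
  have hv : ∀ m, MonoidAlgebra.lift k _ M val (MonoidAlgebra.single m 1) = val m := fun m =>
    (MonoidAlgebra.lift_single _ _ _).trans (one_smul _ _)
  rw [hΔ]
  refine MonoidAlgebra.algHom_ext (fun m => ?_) (Subsingleton.elim _ _)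
  rw [mulPt_groupLike (MonoidAlgebra.isGroupLikeElem_single_one m), AlgHom.comp_apply, AlgHom.comp_apply,
    AlgHom.comp_apply, hv]
  refine scMap_injective k' (A ⊗[k] A) ?_
  rw [map_mul, key, key, key]
  exact map_comul_groupLike (hval m)

set_option maxHeartbeats 4000000 in
/-- without primitives the group is, after a finite extension, diagonalisable -/
theorem exists_twist [Algebra.FiniteType k A] (hprim : ∀ g : A, IsPrim (k := k) g → g = 0) :
    ∃ (k' : Type u) (_ : CommRing k') (_ : Algebra k k') (_ : Module.FaithfullyFlat k k')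
      (_ : Algebra.FinitePresentation k k') (M : Type u) (_ : CommGroup M)
      (_ : Algebra.FiniteType k (MonoidAlgebra k M))
      (q : MonoidAlgebra k M →ₐ[k] k' ⊗[k] A) (q' : A →ₐ[k] k' ⊗[k] MonoidAlgebra k M),
      (ev1 includeLeft q).comp q' = includeRight ∧ (ev1 includeLeft q').comp q = includeRight ∧
      (ev1 includeLeft (mulPt ((includeRight : A ⊗[k] A →ₐ[k] k' ⊗[k] (A ⊗[k] A)).comp includeLeft)
        ((includeRight : A ⊗[k] A →ₐ[k] k' ⊗[k] (A ⊗[k] A)).comp includeRight))).comp q =
      mulPt ((ev1 includeLeft ((includeRight : A ⊗[k] A →ₐ[k] k' ⊗[k] (A ⊗[k] A)).comp includeLeft)).comp q)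
        ((ev1 includeLeft ((includeRight : A ⊗[k] A →ₐ[k] k' ⊗[k] (A ⊗[k] A)).comp includeRight)).comp q) := by
  classical
  let K := AlgebraicClosure k
  obtain ⟨s, hs⟩ := Algebra.FiniteType.out (R := k) (A := A)
  have hspan : ∀ a : A, ∃ (T : Finset (GroupLike K (K ⊗[k] A))) (c : GroupLike K (K ⊗[k] A) → K),
      (1 : K) ⊗ₜ[k] a = ∑ g ∈ T, c g • g.val := fun a => by
    have h : (1 : K) ⊗ₜ[k] a ∈ Submodule.span K (Set.range (GroupLike.val (R := K) (A := K ⊗[k] A))) := by
      refine Submodule.span_mono ?_ (span_groupLike_eq_top hprim ▸ Submodule.mem_top)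
      intro z hz
      exact ⟨⟨z, hz⟩, rfl⟩
    obtain ⟨c, hc⟩ := (Finsupp.mem_span_range_iff_exists_finsupp).1 h
    exact ⟨c.support, c, hc.symm⟩
  choose T c hc using hspan
  obtain ⟨k', hfin, hk'⟩ := exists_intermediateField (V := A)
    (s.biUnion fun a => (T a).biUnion fun g => {g.val, (g⁻¹).val, c a g ⊗ₜ[k] (1 : A)})
  haveI := hfin
  let f := scMap k' A
  let M : Subgroup (k' ⊗[k] A)ˣ :=
    { carrier := {z | IsGroupLikeElem K (f z)}
      one_mem' := by
        show IsGroupLikeElem K (f (1 : k' ⊗[k] A))
        rw [map_one]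
        exact IsGroupLikeElem.one
      mul_mem' := fun {a b} ha hb => by
        show IsGroupLikeElem K (f ((a : k' ⊗[k] A) * (b : k' ⊗[k] A)))
        rw [map_mul]
        exact IsGroupLikeElem.mul ha hb
      inv_mem' := fun {a} ha => by
        let g : GroupLike K (K ⊗[k] A) := ⟨f a, ha⟩
        have : f ((a⁻¹ : (k' ⊗[k] A)ˣ) : k' ⊗[k] A) = (g⁻¹).val := left_inv_eq_right_inv
          (a := g.val) (by rw [← map_mul, Units.inv_mul, map_one])
          (by rw [← GroupLike.val_mul, mul_inv_cancel, GroupLike.val_one])
        show IsGroupLikeElem K _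
        rw [this]
        exact (g⁻¹).isGroupLikeElem_val }
  let val : M →* k' ⊗[k] A := (Units.coeHom _).comp M.subtype
  let Φ : MonoidAlgebra k' M →ₐ[k'] k' ⊗[k] A := MonoidAlgebra.lift k' _ M val
  have hinj : Function.Injective Φ := by
    have hli : LinearIndependent K fun m : M => f (val m) :=
      (linearIndep_groupLikeVal (R := K) (A := K ⊗[k] A)).comp (fun m : M => ⟨f (val m), m.2⟩) fun m m' h =>
        Subtype.ext (Units.ext (scMap_injective k' A (congrArg GroupLike.val h)))
    refine (injective_iff_map_eq_zero _).2 fun x hx => ?_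
    have hsum : ∑ m ∈ x.coeff.support, (x.coeff m : K) • f (val m) = 0 := by
      rw [← map_zero f, ← hx, show Φ x = _ from MonoidAlgebra.lift_apply val x, Finsupp.sum, map_sum]
      exact Finset.sum_congr rfl fun m _ => (scMap_smul k' _ _).symm
    refine MonoidAlgebra.ext (Finsupp.ext fun m => ?_)
    by_cases hm : m ∈ x.coeff.support
    · exact Subtype.ext (linearIndependent_iff'.1 hli _ _ hsum m hm)
    · exact Finsupp.notMem_support_iff.1 hm
  have hsurj : Function.Surjective Φ := by
    have hgen : ∀ a ∈ s, (1 : k') ⊗ₜ[k] a ∈ Φ.range := fun a ha => by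
      have hz : ∀ g ∈ T a, (∃ c' : k', (c' : K) = c a g) ∧ ∃ z ∈ Φ.range, f z = g.val := fun g hg => by
        have hmem : ∀ z ∈ ({g.val, (g⁻¹).val, c a g ⊗ₜ[k] (1 : A)} : Finset (K ⊗[k] A)), z ∈ f.range :=
          fun z hz => hk' z (Finset.mem_biUnion.2 ⟨a, ha, Finset.mem_biUnion.2 ⟨g, hg, hz⟩⟩)
        obtain ⟨z, hz⟩ := hmem g.val (by simp)
        obtain ⟨z', hz'⟩ := hmem (g⁻¹).val (by simp)
        obtain ⟨w, hw⟩ := hmem (c a g ⊗ₜ[k] (1 : A)) (by simp)
        have hzz : z * z' = 1 := scMap_injective k' A (by
          rw [map_mul, map_one]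
          refine (congrArg₂ (· * ·) hz hz').trans ?_
          rw [← GroupLike.val_mul, mul_inv_cancel, GroupLike.val_one])
        refine ⟨⟨TensorProduct.rid k k' ((Bialgebra.counitAlgHom k A).toLinearMap.lTensor k' w), ?_⟩,
          z, ⟨MonoidAlgebra.single (⟨Units.mkOfMulEqOne z z' hzz, ?_⟩ : M) 1, ?_⟩, hz⟩
        · have e : ∀ w : k' ⊗[k] A,
              ((TensorProduct.rid k k' ((Bialgebra.counitAlgHom k A).toLinearMap.lTensor k' w) : k') : K) =
                TensorProduct.rid k K ((Bialgebra.counitAlgHom k A).toLinearMap.lTensor K (f w)) := fun w => by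
            induction w using TensorProduct.induction_on with
            | zero => simp
            | tmul x y => simp [f]
            | add x y hx hy => simp only [map_add, IntermediateField.coe_add, hx, hy]
          rw [e, show f w = _ from hw]
          simp
        · show IsGroupLikeElem K (f z)
          rw [show f z = _ from hz]
          exact g.isGroupLikeElem_val
        · exact (MonoidAlgebra.lift_single _ _ _).trans (one_smul _ _)
      choose! hc' z hzr hzf using hz
      choose! c' hc'' using hc'
      have : (1 : k') ⊗ₜ[k] a = ∑ g ∈ T a, c' g • z g := scMap_injective k' A (by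
        rw [map_sum]
        refine Eq.trans ?_ ((hc a).trans (Finset.sum_congr rfl fun g hg => ?_))
        · simp
        · rw [scMap_smul, hc'' g hg, hzf g hg])
      rw [this]
      exact Subalgebra.sum_mem _ fun g hg => Subalgebra.smul_mem _ (hzr g hg) _
    have hall : ∀ a : A, (1 : k') ⊗ₜ[k] a ∈ Φ.range := fun a => by
      have : a ∈ (Φ.range.restrictScalars k).comap (includeRight : A →ₐ[k] k' ⊗[k] A) := by
        refine (hs ▸ Algebra.adjoin_le (fun b hb => hgen b hb) :
          (⊤ : Subalgebra k A) ≤ (Φ.range.restrictScalars k).comap includeRight) Algebra.mem_top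
      exact this
    intro z
    induction z using TensorProduct.induction_on with
    | zero => exact ⟨0, map_zero _⟩
    | add x y hx hy =>
      obtain ⟨⟨x', rfl⟩, ⟨y', rfl⟩⟩ := hx, hy
      exact ⟨x' + y', map_add _ _ _⟩
    | tmul c a =>
      have := Subalgebra.smul_mem Φ.range (hall a) c
      rw [TensorProduct.smul_tmul', smul_eq_mul, mul_one] at this
      exact this
  let Φe : MonoidAlgebra k' M ≃ₐ[k'] k' ⊗[k] A := AlgEquiv.ofBijective Φ ⟨hinj, hsurj⟩
  haveI : Algebra.FiniteType k (MonoidAlgebra k M) := by
    have : Algebra.FiniteType k' (MonoidAlgebra k' M) := Algebra.FiniteType.equiv inferInstance Φe.symm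
    haveI := MonoidAlgebra.finiteType_iff_fg.1 this
    infer_instance
  let E : MonoidAlgebra k' M ≃ₐ[k'] k' ⊗[k] MonoidAlgebra k M := (MonoidAlgebra.scalarTensorEquiv k k').symm
  let q : MonoidAlgebra k M →ₐ[k] k' ⊗[k] A := MonoidAlgebra.lift k _ M val
  let G : k' ⊗[k] A →ₐ[k] k' ⊗[k] MonoidAlgebra k M := (Φe.symm.trans E).toAlgHom.restrictScalars k
  let q' : A →ₐ[k] k' ⊗[k] MonoidAlgebra k M := G.comp includeRight
  have hG : ev1 includeLeft q' = G := by
    refine Algebra.TensorProduct.ext (AlgHom.ext fun c => ?_) (AlgHom.ext fun a => ?_)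
    · refine Eq.trans (by simp) ((Φe.symm.trans E).commutes c).symm
    · simp [q']
  have hΦE : ∀ m : M, G (val m) = (1 : k') ⊗ₜ MonoidAlgebra.single m 1 := fun m => by
    show E (Φe.symm (val m)) = _
    rw [show val m = Φe (MonoidAlgebra.single m 1) from ((MonoidAlgebra.lift_single _ _ _).trans (one_smul _ _)).symm,
      AlgEquiv.symm_apply_apply]
    exact MonoidAlgebra.scalarTensorEquiv_symm_single ..
  have h₂ : (ev1 includeLeft q').comp q = includeRight := by
    refine MonoidAlgebra.algHom_ext (fun m => ?_) (Subsingleton.elim _ _)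
    rw [hG]
    show G (q (MonoidAlgebra.single m 1)) = _
    rw [MonoidAlgebra.lift_single, one_smul, hΦE]
    rfl
  have h₁ : (ev1 includeLeft q).comp q' = includeRight := by
    have : ev1 includeLeft q = (Φe.toAlgHom.restrictScalars k).comp (E.symm.toAlgHom.restrictScalars k) := by
      refine Algebra.TensorProduct.ext (AlgHom.ext fun c => ?_)
        (MonoidAlgebra.algHom_ext (fun m => ?_) (Subsingleton.elim _ _))
      · refine Eq.trans (by simp) ((E.symm.trans Φe).commutes c).symm
      · show ev1 includeLeft q ((1 : k') ⊗ₜ MonoidAlgebra.single m 1) = Φe (E.symm ((1 : k') ⊗ₜ MonoidAlgebra.single m 1))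
        rw [Algebra.TensorProduct.lift_tmul, map_one, one_mul, ← hΦE m]
        show q (MonoidAlgebra.single m 1) = Φe (E.symm (E (Φe.symm (val m))))
        rw [AlgEquiv.symm_apply_apply, AlgEquiv.apply_symm_apply, MonoidAlgebra.lift_single, one_smul]
    rw [this]
    refine AlgHom.ext fun a => ?_
    show Φe (E.symm (E (Φe.symm _))) = _
    rw [AlgEquiv.symm_apply_apply, AlgEquiv.apply_symm_apply]
    rfl
  haveI : Algebra.FinitePresentation k k' := Algebra.FinitePresentation.of_finiteType.1 inferInstance
  exact ⟨k', inferInstance, inferInstance, inferInstance, inferInstance, M, inferInstance, inferInstance, q, q', h₁, h₂,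
    twist_hmul k' val fun m => m.2⟩

/-- **Hopf algebras without primitives** -/
theorem liftsLoc_multType (p : ℕ) [Fact p.Prime] [CharP k p] [Algebra.FiniteType k A]
    (hprim : ∀ g : A, IsPrim (k := k) g → g = 0) : LiftsLoc (CGrpSh.pts Kf (P k A)) := by
  obtain ⟨k', _, _, _, _, M, _, _, q, q', h₁, h₂, hmul⟩ := exists_twist hprim
  refine liftsLoc_of_twisted q q' h₁ h₂ hmul (liftsLoc_diag p ?_)
  rw [eq_top_iff]
  rintro x -
  induction x using MonoidAlgebra.induction_linear with
  | zero => exact zero_mem _
  | add a b ha hb => exact add_mem ha hb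
  | single m r =>
    rw [show MonoidAlgebra.single m r = r • MonoidAlgebra.single m 1 by simp]
    exact Subalgebra.smul_mem _ (Algebra.subset_adjoin (MonoidAlgebra.isGroupLikeElem_single_one m)) _

end Groth.L07.ExtShAff
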