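import Groth.Agent.L07.ExtShAff.HopfObl
import Mathlib.RingTheory.HopfAlgebra.Basic
import Mathlib.RingTheory.QuasiFinite.Basic
import Mathlib.RingTheory.Localization.Away.Basic
import Mathlib.RingTheory.Flat.FaithfullyFlat.Algebra
import Mathlib.RingTheory.IntegralClosure.Algebra.Basic
import Mathlib.RingTheory.Etale.Basic

/-!
# The lifting obligations for finite commutative groups over a field
-/

universe u

open TensorProduct WithConv
open Algebra.TensorProduct (includeLeft includeRight)

set_option autoImplicit false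
set_option backward.isDefEq.respectTransparency false
set_option backward.isDefEq.respectTransparency.types false
set_option linter.style.haveILetI false
set_option maxHeartbeats 1000000
set_option maxSynthPendingDepth 6

noncomputable section

namespace Groth.L07.ExtShAff

variable {k : Type u} [Field k] {H : Type u} [CommRing H] [HopfAlgebra k H]

/-- over a finite algebra an invertible module has, near every prime of the base, an element with a functional
value inverted near that prime -/
theorem exists_generator {R B : Type u} [CommRing R] [CommRing B] [Algebra R B] [Module.Finite R B]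
    (N : Type u) [AddCommGroup N] [Module B N] [Module.Invertible B N] (q : PrimeSpectrum R) :
    ∃ f : R, f ∉ q.asIdeal ∧ ∃ (n : N) (g : N →ₗ[B] B), g n = algebraMap R B f := by
  classical
  let P := (PrimeSpectrum.comap (algebraMap R B) ⁻¹' {q})
  have hP : P.Finite := Algebra.QuasiFinite.finite_comap_preimage_singleton q
  have hloc : ∀ Q : PrimeSpectrum B, ∃ (n : N) (g : N →ₗ[B] B), g n ∉ Q.asIdeal := fun Q => by
    by_contra hne
    push Not at hne
    obtain ⟨S, hS⟩ := ((Module.Invertible.linearEquiv B N).symm 1).exists_finset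
    have h1 : (1 : B) = ∑ i ∈ S, i.1 i.2 := by
      have := congrArg (Module.Invertible.linearEquiv B N) hS
      rw [LinearEquiv.apply_symm_apply, map_sum] at this
      simpa [Module.Invertible.linearEquiv] using this
    exact Q.isPrime.ne_top ((Ideal.eq_top_iff_one _).2 (h1 ▸ Ideal.sum_mem _ fun i _ => hne i.2 i.1))
  choose n₀ g₀ hg₀ using hloc
  have hinc : ∀ Q ∈ P, ∀ Q' ∈ P, Q'.asIdeal ≤ Q.asIdeal → Q' = Q := fun Q hQ Q' hQ' hle => by
    rcases eq_or_lt_of_le hle with h | h
    · exact PrimeSpectrum.ext h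
    · have hlt := Ideal.IsIntegral.comap_lt_comap (R := R) h
      rw [show Q'.asIdeal.comap (algebraMap R B) = q.asIdeal from congrArg PrimeSpectrum.asIdeal hQ',
        show Q.asIdeal.comap (algebraMap R B) = q.asIdeal from congrArg PrimeSpectrum.asIdeal hQ] at hlt
      exact absurd hlt (lt_irrefl _)
  have hsep : ∀ Q ∈ hP.toFinset, ∃ e : B, e ∉ Q.asIdeal ∧ ∀ Q' ∈ hP.toFinset, Q' ≠ Q → e ∈ Q'.asIdeal := fun Q hQ => by
    have : ¬ ((hP.toFinset.erase Q).inf fun Q' => Q'.asIdeal) ≤ Q.asIdeal := fun hle => by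
      obtain ⟨Q', hQ', hle'⟩ := (Ideal.IsPrime.inf_le' Q.isPrime).1 hle
      rw [Finset.mem_erase, hP.mem_toFinset] at hQ'
      exact hQ'.1 (hinc Q (hP.mem_toFinset.1 hQ) Q' hQ'.2 hle')
    obtain ⟨e, he, heQ⟩ := SetLike.not_le_iff_exists.1 this
    exact ⟨e, heQ, fun Q' hQ' hne => (Finset.inf_le (f := fun Q' : PrimeSpectrum B => Q'.asIdeal)
      (Finset.mem_erase.2 ⟨hne, hQ'⟩)) he⟩
  choose e he he' using hsep
  let n : N := ∑ Q ∈ hP.toFinset.attach, e Q.1 Q.2 • n₀ Q.1
  let I : Ideal B := LinearMap.range ((LinearMap.applyₗ n : (N →ₗ[B] B) →ₗ[B] B))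
  have hI : ¬ I.comap (algebraMap R B) ≤ q.asIdeal := fun hle => by
    obtain ⟨Q, hQI, hQp, hQq⟩ := Ideal.exists_ideal_over_prime_of_isIntegral q.asIdeal I hle
    have hQ : (⟨Q, hQp⟩ : PrimeSpectrum B) ∈ hP.toFinset := hP.mem_toFinset.2 (PrimeSpectrum.ext hQq)
    have hmem : g₀ ⟨Q, hQp⟩ n ∈ Q := hQI ⟨g₀ ⟨Q, hQp⟩, rfl⟩
    rw [map_sum, ← Finset.add_sum_erase _ _ (Finset.mem_attach _ ⟨_, hQ⟩)] at hmem
    have hrest : ∑ x ∈ hP.toFinset.attach.erase ⟨_, hQ⟩, g₀ ⟨Q, hQp⟩ (e x.1 x.2 • n₀ x.1) ∈ Q := by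
      refine Ideal.sum_mem _ fun x hx => ?_
      rw [map_smul, smul_eq_mul]
      refine Ideal.mul_mem_right _ _ (he' x.1 x.2 ⟨Q, hQp⟩ hQ fun h => (Finset.mem_erase.1 hx).1 ?_)
      exact Subtype.ext h.symm
    have := (Ideal.add_mem_iff_left _ hrest).1 hmem
    rw [map_smul, smul_eq_mul] at this
    exact (hQp.mem_or_mem this).elim (he _ hQ) (hg₀ ⟨Q, hQp⟩)
  obtain ⟨f, hf, hfq⟩ := SetLike.not_le_iff_exists.1 hI
  obtain ⟨g, hg⟩ := hf
  exact ⟨f, hfq, n, g, hg⟩

theorem ringPic_finite [Module.Finite k H] : RingPic k H := by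
  intro R _ _ N _ _ _ q
  obtain ⟨f, hfq, n, g, hg⟩ := exists_generator (B := R ⊗[k] H) N q
  let S := Localization.Away f
  refine ⟨S, inferInstance, inferInstance, inferInstance, inferInstance, inferInstance,
    IsLocalization.Away.finitePresentation f, ?_, ?_⟩
  · rw [PrimeSpectrum.localization_away_comap_range S f]
    exact hfq
  letI : Algebra (R ⊗[k] H) (S ⊗[k] H) :=
    (Algebra.TensorProduct.map (IsScalarTower.toAlgHom k R S) (AlgHom.id k H)).toRingHom.toAlgebra
  have hu : IsUnit (algebraMap (R ⊗[k] H) (S ⊗[k] H) (g n)) := by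
    rw [hg]
    show IsUnit (algebraMap R S f ⊗ₜ[k] (1 : H))
    exact (IsLocalization.Away.algebraMap_isUnit f).map (Algebra.TensorProduct.includeLeftRingHom : S →+* S ⊗[k] H)
  let θ : (S ⊗[k] H) ⊗[R ⊗[k] H] N →ₗ[S ⊗[k] H] S ⊗[k] H :=
    ((Algebra.linearMap (R ⊗[k] H) (S ⊗[k] H)) ∘ₗ g).liftBaseChange (S ⊗[k] H)
  haveI : Module.Invertible (S ⊗[k] H) ((S ⊗[k] H) ⊗[R ⊗[k] H] N) := inferInstance
  refine ⟨LinearEquiv.ofBijective θ (Module.Invertible.bijective_of_surjective (R := S ⊗[k] H) (N := S ⊗[k] H) (f := θ) fun t =>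
    ⟨(t * ↑hu.unit⁻¹) ⊗ₜ n, ?_⟩)⟩
  show θ _ = t
  rw [LinearMap.liftBaseChange_tmul, LinearMap.comp_apply, Algebra.linearMap_apply, smul_eq_mul, mul_assoc,
    IsUnit.val_inv_mul, mul_one]

section Twist

variable {R : Type u} [CommRing R] [Algebra k R]

variable (k H R) in
/-- symmetric normalised cocycles -/
structure Cocyc where
  /-- the unit -/
  h : (R ⊗[k] (H ⊗[k] H))ˣ
  sym : ∀ (A : Type u) [CommRing A] [Algebra k A] (φ : R →ₐ[k] A) (x y : H →ₐ[k] A), ev2 φ x y h = ev2 φ y x h
  norm : ∀ (A : Type u) [CommRing A] [Algebra k A] (φ : R →ₐ[k] A) (x : H →ₐ[k] A), ev2 φ onePt x h = 1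
  coc : ∀ (A : Type u) [CommRing A] [Algebra k A] (φ : R →ₐ[k] A) (x y z : H →ₐ[k] A),
    ev2 φ x y h * ev2 φ (mulPt x y) z h = ev2 φ y z h * ev2 φ x (mulPt y z) h

/-- pairs of functionals -/
def mul2 (a b : H →ₗ[k] R) : R ⊗[k] (H ⊗[k] H) →ₗ[R] R :=
  ((LinearMap.mul' k R) ∘ₗ TensorProduct.map a b).liftBaseChange R

theorem mul2_tmul (a b : H →ₗ[k] R) (r : R) (x y : H) : mul2 a b (r ⊗ₜ (x ⊗ₜ y)) = r * (a x * b y) := by
  simp [mul2]

/-- triples of functionals -/
def mul3 (a b c : H →ₗ[k] R) : R ⊗[k] (H ⊗[k] (H ⊗[k] H)) →ₗ[R] R :=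
  ((LinearMap.mul' k R) ∘ₗ TensorProduct.map a ((LinearMap.mul' k R) ∘ₗ TensorProduct.map b c)).liftBaseChange R

theorem mul3_tmul (a b c : H →ₗ[k] R) (r : R) (x y z : H) :
    mul3 a b c (r ⊗ₜ (x ⊗ₜ (y ⊗ₜ z))) = r * (a x * (b y * c z)) := by
  simp [mul3]

theorem ev2_comul {A : Type u} [CommRing A] [Algebra k A] (φ : R →ₐ[k] A) (x y : H →ₐ[k] A) (w : H) :
    ev2 φ x y ((1 : R) ⊗ₜ CoalgebraStruct.comul (R := k) w) = mulPt x y w := by
  rw [Algebra.TensorProduct.lift_tmul, map_one, one_mul]
  show _ = (Algebra.TensorProduct.lmul' k) ((Algebra.TensorProduct.map x y) (CoalgebraStruct.comul (R := k) w))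
  generalize CoalgebraStruct.comul (R := k) w = z
  induction z using TensorProduct.induction_on with
  | zero => simp
  | tmul a b => simp
  | add a b ha hb => simp only [map_add, ha, hb]

/-- the twisted dual algebra -/
def TwD (_ : Cocyc k H R) : Type u := H →ₗ[k] R

variable (C : Cocyc k H R)

instance : AddCommGroup (TwD C) := inferInstanceAs (AddCommGroup (H →ₗ[k] R))
instance : Module R (TwD C) := inferInstanceAs (Module R (H →ₗ[k] R))

/-- read an element as a functional -/
def TwD.fn {C : Cocyc k H R} (a : TwD C) : H →ₗ[k] R := a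

/-- make an element from a functional -/
def TwD.mk {C : Cocyc k H R} (a : H →ₗ[k] R) : TwD C := a

theorem TwD.ext' {C : Cocyc k H R} {a b : TwD C} (h : ∀ x, a.fn x = b.fn x) : a = b := LinearMap.ext h

/-- the twisted product -/
def twMul (a b : TwD C) : TwD C :=
  TwD.mk ((mul2 a.fn b.fn).restrictScalars k ∘ₗ LinearMap.mulLeft k C.h.val ∘ₗ
    (includeRight : H ⊗[k] H →ₐ[k] R ⊗[k] (H ⊗[k] H)).toLinearMap ∘ₗ CoalgebraStruct.comul)

theorem twMul_fn (a b : TwD C) (x : H) :
    (twMul C a b).fn x = mul2 a.fn b.fn (C.h.val * ((1 : R) ⊗ₜ CoalgebraStruct.comul (R := k) x)) := rfl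

/-- the unit -/
def twOne : TwD C := TwD.mk (Algebra.linearMap k R ∘ₗ CoalgebraStruct.counit)

local notation "A2" => R ⊗[k] (H ⊗[k] H)
local notation "A3" => R ⊗[k] (H ⊗[k] (H ⊗[k] H))

variable [Coalgebra.IsCocomm k H]

theorem twMul_comm (a b : TwD C) : twMul C a b = twMul C b a := TwD.ext' fun x => by
  let φ : R →ₐ[k] A2 := includeLeft
  let x₀ : H →ₐ[k] A2 := (includeRight : H ⊗[k] H →ₐ[k] A2).comp includeLeft
  let x₁ : H →ₐ[k] A2 := (includeRight : H ⊗[k] H →ₐ[k] A2).comp includeRight
  have hid : ev2 φ x₀ x₁ = AlgHom.id k A2 :=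
    Algebra.TensorProduct.ext (AlgHom.ext fun s => by simp [φ])
      (Algebra.TensorProduct.ext (AlgHom.ext fun s => by simp [x₀]) (AlgHom.ext fun s => by simp [x₁]))
  have hsw : ∀ z : A2, mul2 b.fn a.fn z = mul2 a.fn b.fn (ev2 φ x₁ x₀ z) := fun z => by
    induction z using TensorProduct.induction_on with
    | zero => simp
    | add u v hu hv => simp only [map_add, hu, hv]
    | tmul r w =>
      induction w using TensorProduct.induction_on with
      | zero => simp
      | add u v hu hv => simp only [TensorProduct.tmul_add, map_add, hu, hv]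
      | tmul u v =>
        simp only [φ, x₀, x₁, Algebra.TensorProduct.lift_tmul, AlgHom.comp_apply,
          Algebra.TensorProduct.includeLeft_apply, Algebra.TensorProduct.includeRight_apply,
          Algebra.TensorProduct.tmul_mul_tmul, one_mul, mul_one, mul2_tmul]
        ring
  rw [twMul_fn, twMul_fn, hsw, map_mul (ev2 φ x₁ x₀), ← C.sym _ φ x₀ x₁, hid, ev2_comul]
  congr 1
  show C.h.1 * _ = C.h.1 * (toConv x₁ * toConv x₀).ofConv x
  rw [mul_comm (toConv x₁)]
  show _ = C.h.1 * mulPt x₀ x₁ x
  rw [← ev2_comul φ x₀ x₁, hid]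
  rfl

theorem twMul_one (b : TwD C) : twMul C (twOne C) b = b := TwD.ext' fun x => by
  let φ : R →ₐ[k] R ⊗[k] H := includeLeft
  let y : H →ₐ[k] R ⊗[k] H := includeRight
  have he : ∀ z : A2, mul2 (twOne C).fn b.fn z = b.fn.liftBaseChange R (ev2 φ onePt y z) := fun z => by
    induction z using TensorProduct.induction_on with
    | zero => simp
    | add u v hu hv => simp only [map_add, hu, hv]
    | tmul r w =>
      induction w using TensorProduct.induction_on with
      | zero => simp
      | add u v hu hv => simp only [TensorProduct.tmul_add, map_add, hu, hv]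
      | tmul u v =>
        simp [φ, y, mul2_tmul, twOne, TwD.fn, TwD.mk, Algebra.TensorProduct.algebraMap_apply, mul_assoc]
  rw [twMul_fn, he, map_mul (ev2 φ onePt y), C.norm _ φ y, one_mul, ev2_comul]
  show b.fn.liftBaseChange R ((1 * toConv y : WithConv (H →ₐ[k] R ⊗[k] H)).ofConv x) = _
  rw [one_mul]
  simp [y]

theorem twMul_assoc (a b c : TwD C) : twMul C (twMul C a b) c = twMul C a (twMul C b c) := TwD.ext' fun x => by
  let φ : R →ₐ[k] A3 := includeLeft
  let x₀ : H →ₐ[k] A3 := (includeRight : H ⊗[k] (H ⊗[k] H) →ₐ[k] A3).comp includeLeft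
  let x₁ : H →ₐ[k] A3 := (includeRight : H ⊗[k] (H ⊗[k] H) →ₐ[k] A3).comp
    ((includeRight : H ⊗[k] H →ₐ[k] H ⊗[k] (H ⊗[k] H)).comp includeLeft)
  let x₂ : H →ₐ[k] A3 := (includeRight : H ⊗[k] (H ⊗[k] H) →ₐ[k] A3).comp
    ((includeRight : H ⊗[k] H →ₐ[k] H ⊗[k] (H ⊗[k] H)).comp includeRight)
  have hL : ∀ (r : R) (v : H) (z : A2),
      mul3 a.fn b.fn c.fn (φ r * ev2 φ x₀ x₁ z * x₂ v) = r * mul2 a.fn b.fn z * c.fn v := fun r v z => by
    induction z using TensorProduct.induction_on with
    | zero => simp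
    | add u w hu hw => simp only [map_add, mul_add, add_mul, hu, hw]
    | tmul s w =>
      induction w using TensorProduct.induction_on with
      | zero => simp
      | add u w hu hw => simp only [TensorProduct.tmul_add, map_add, mul_add, add_mul, hu, hw]
      | tmul u w =>
        simp only [φ, x₀, x₁, x₂, Algebra.TensorProduct.lift_tmul, AlgHom.comp_apply,
          Algebra.TensorProduct.includeLeft_apply, Algebra.TensorProduct.includeRight_apply,
          Algebra.TensorProduct.tmul_mul_tmul, one_mul, mul_one, mul2_tmul, mul3_tmul]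
        ring
  have hR : ∀ (r : R) (v : H) (z : A2),
      mul3 a.fn b.fn c.fn (φ r * (x₀ v * ev2 φ x₁ x₂ z)) = r * (a.fn v * mul2 b.fn c.fn z) := fun r v z => by
    induction z using TensorProduct.induction_on with
    | zero => simp
    | add u w hu hw => simp only [map_add, mul_add, hu, hw]
    | tmul s w =>
      induction w using TensorProduct.induction_on with
      | zero => simp
      | add u w hu hw => simp only [TensorProduct.tmul_add, map_add, mul_add, hu, hw]
      | tmul u w =>
        simp only [φ, x₀, x₁, x₂, Algebra.TensorProduct.lift_tmul, AlgHom.comp_apply,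
          Algebra.TensorProduct.includeLeft_apply, Algebra.TensorProduct.includeRight_apply,
          Algebra.TensorProduct.tmul_mul_tmul, one_mul, mul_one, mul2_tmul, mul3_tmul]
        ring
  have h1 : ∀ z : A2, mul2 (twMul C a b).fn c.fn z =
      mul3 a.fn b.fn c.fn (ev2 φ x₀ x₁ C.h.val * ev2 φ (mulPt x₀ x₁) x₂ z) := fun z => by
    induction z using TensorProduct.induction_on with
    | zero => simp
    | add u w hu hw => simp only [map_add, mul_add, hu, hw]
    | tmul r w =>
      induction w using TensorProduct.induction_on with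
      | zero => simp
      | add u w hu hw => simp only [TensorProduct.tmul_add, map_add, mul_add, hu, hw]
      | tmul u v =>
        rw [mul2_tmul, twMul_fn, ← mul_assoc r, ← hL r v, map_mul (ev2 φ x₀ x₁), ev2_comul,
          Algebra.TensorProduct.lift_tmul, Algebra.TensorProduct.lift_tmul]
        congr 1
        ring
  have h2 : ∀ z : A2, mul2 a.fn (twMul C b c).fn z =
      mul3 a.fn b.fn c.fn (ev2 φ x₁ x₂ C.h.val * ev2 φ x₀ (mulPt x₁ x₂) z) := fun z => by
    induction z using TensorProduct.induction_on with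
    | zero => simp
    | add u w hu hw => simp only [map_add, mul_add, hu, hw]
    | tmul r w =>
      induction w using TensorProduct.induction_on with
      | zero => simp
      | add u w hu hw => simp only [TensorProduct.tmul_add, map_add, mul_add, hu, hw]
      | tmul u v =>
        rw [mul2_tmul, twMul_fn, ← hR r u, map_mul (ev2 φ x₁ x₂), ev2_comul,
          Algebra.TensorProduct.lift_tmul, Algebra.TensorProduct.lift_tmul]
        congr 1
        ring
  rw [twMul_fn, twMul_fn, h1, h2, map_mul (ev2 φ (mulPt x₀ x₁) x₂), map_mul (ev2 φ x₀ (mulPt x₁ x₂)), ev2_comul, ev2_comul, ← mul_assoc, ← mul_assoc, C.coc _ φ x₀ x₁ x₂]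
  congr 2
  exact AlgHom.congr_fun (congrArg WithConv.ofConv (mul_assoc (toConv x₀) (toConv x₁) (toConv x₂))) x

instance : Mul (TwD C) := ⟨twMul C⟩
instance : One (TwD C) := ⟨twOne C⟩

theorem twMul_add (a b c : TwD C) : a * (b + c) = a * b + a * c := TwD.ext' fun x => by
  show mul2 a.fn (b.fn + c.fn) _ = mul2 a.fn b.fn _ + mul2 a.fn c.fn _
  rw [← LinearMap.add_apply]
  congr 1
  simp [mul2, TensorProduct.map_add_right, LinearMap.comp_add]

instance : CommRing (TwD C) where
  mul_comm := twMul_comm C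
  mul_assoc := twMul_assoc C
  one_mul := twMul_one C
  mul_one a := (twMul_comm C a (twOne C)).trans (twMul_one C a)
  left_distrib := twMul_add C
  right_distrib a b c := by
    show (a + b) * c = a * c + b * c
    rw [show (a + b) * c = c * (a + b) from twMul_comm C _ _, twMul_add, show c * a = a * c from twMul_comm C _ _,
      show c * b = b * c from twMul_comm C _ _]
  zero_mul a := TwD.ext' fun x => by
    show mul2 (0 : H →ₗ[k] R) a.fn _ = (0 : R)
    simp [mul2]
  mul_zero a := TwD.ext' fun x => by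
    show mul2 a.fn (0 : H →ₗ[k] R) _ = (0 : R)
    simp [mul2]

theorem tw_smul_mul (r : R) (a b : TwD C) : (r • a) * b = r • (a * b) := TwD.ext' fun x => by
  have : ∀ z : A2, mul2 (r • a.fn) b.fn z = r * mul2 a.fn b.fn z := fun z => by
    induction z using TensorProduct.induction_on with
    | zero => simp
    | add u w hu hw => simp only [map_add, mul_add, hu, hw]
    | tmul s w =>
      induction w using TensorProduct.induction_on with
      | zero => simp
      | add u w hu hw => simp only [TensorProduct.tmul_add, map_add, mul_add, hu, hw]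
      | tmul u w =>
        rw [mul2_tmul, mul2_tmul, LinearMap.smul_apply, smul_eq_mul]
        ring
  exact this _

instance : Algebra R (TwD C) :=
  Algebra.ofModule (tw_smul_mul C) fun r a b => by
    rw [mul_comm a, tw_smul_mul, mul_comm b]

instance : Algebra k (TwD C) := ((algebraMap R (TwD C)).comp (algebraMap k R)).toAlgebra
instance : IsScalarTower k R (TwD C) := IsScalarTower.of_algebraMap_eq fun _ => rfl

variable {n : ℕ} (bH : Module.Basis (Fin n) k H)

/-- the coordinate functionals -/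
def dlt (i : Fin n) : TwD C := TwD.mk (bH.constr R (Pi.single i (1 : R)))

theorem dlt_fn (i : Fin n) (x : H) : (dlt C bH i).fn x = algebraMap k R (bH.repr x i) := by
  show bH.constr R (Pi.single i (1 : R)) x = _
  rw [Module.Basis.constr_apply_fintype]
  simp [Pi.single_apply, Algebra.smul_def]

theorem sum_dlt (a : TwD C) : ∑ l, a.fn (bH l) • dlt C bH l = a := by
  refine bH.ext fun j => ?_
  show (∑ l, a.fn (bH l) • (dlt C bH l).fn) (bH j) = a.fn (bH j)
  simp [LinearMap.sum_apply, dlt_fn, Finsupp.single_apply, apply_ite (algebraMap k R)]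

/-- the tautological element -/
def taut : TwD C ⊗[k] H := ∑ i, dlt C bH i ⊗ₜ bH i

variable {A : Type u} [CommRing A] [Algebra k A] (φ : TwD C →ₐ[k] A)

theorem map_smul_tw (r : R) (a : TwD C) : φ (r • a) = φ.comp (IsScalarTower.toAlgHom k R (TwD C)) r * φ a := by
  rw [Algebra.smul_def, map_mul]
  rfl

theorem ev2_eq_sum (x y : H →ₐ[k] A) (z : A2) :
    ev2 (φ.comp (IsScalarTower.toAlgHom k R (TwD C))) x y z =
      ∑ i, ∑ j, φ.comp (IsScalarTower.toAlgHom k R (TwD C)) (mul2 (dlt C bH i).fn (dlt C bH j).fn z) *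
        (x (bH i) * y (bH j)) := by
  induction z using TensorProduct.induction_on with
  | zero => simp
  | add u w hu hw => simp only [map_add, hu, hw, add_mul, Finset.sum_add_distrib]
  | tmul s w =>
    induction w using TensorProduct.induction_on with
    | zero => simp
    | add u w hu hw => simp only [TensorProduct.tmul_add, map_add, hu, hw, add_mul, Finset.sum_add_distrib]
    | tmul u v =>
      rw [Algebra.TensorProduct.lift_tmul, Algebra.TensorProduct.lift_tmul]
      have hx : ∀ (x : H →ₐ[k] A) (u : H), x u = ∑ i, algebraMap k A (bH.repr u i) * x (bH i) := fun x u => by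
        conv_lhs => rw [← bH.sum_repr u]
        rw [map_sum]
        exact Finset.sum_congr rfl fun i _ => by rw [map_smul, Algebra.smul_def]
      rw [hx x u, hx y v, Finset.sum_mul_sum, Finset.mul_sum]
      refine Finset.sum_congr rfl fun i _ => ?_
      rw [Finset.mul_sum]
      refine Finset.sum_congr rfl fun j _ => ?_
      rw [mul2_tmul, dlt_fn, dlt_fn, map_mul, map_mul, AlgHom.commutes, AlgHom.commutes]
      ring

theorem ev1_taut (x : H →ₐ[k] A) : ev1 φ x (taut C bH) = ∑ i, φ (dlt C bH i) * x (bH i) := by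
  simp [taut, map_sum]

theorem taut_eq (x y : H →ₐ[k] A) :
    ev1 φ x (taut C bH) * ev1 φ y (taut C bH) =
      ev2 (φ.comp (IsScalarTower.toAlgHom k R (TwD C))) x y C.h.val * ev1 φ (mulPt x y) (taut C bH) := by
  have hprod : ∀ i j, φ (dlt C bH i) * φ (dlt C bH j) = ∑ l, φ.comp (IsScalarTower.toAlgHom k R (TwD C))
      ((dlt C bH i * dlt C bH j).fn (bH l)) * φ (dlt C bH l) := fun i j => by
    rw [← map_mul]
    conv_lhs => rw [← sum_dlt C bH (dlt C bH i * dlt C bH j)]
    rw [map_sum]
    exact Finset.sum_congr rfl fun l _ => map_smul_tw C φ _ _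
  rw [ev1_taut, ev1_taut, ev1_taut, Finset.sum_mul_sum, Finset.mul_sum]
  calc ∑ i, ∑ j, φ (dlt C bH i) * x (bH i) * (φ (dlt C bH j) * y (bH j))
      = ∑ i, ∑ j, ∑ l, φ (dlt C bH l) * (φ.comp (IsScalarTower.toAlgHom k R (TwD C))
          ((dlt C bH i * dlt C bH j).fn (bH l)) * (x (bH i) * y (bH j))) := by
        refine Finset.sum_congr rfl fun i _ => Finset.sum_congr rfl fun j _ => ?_
        rw [show φ (dlt C bH i) * x (bH i) * (φ (dlt C bH j) * y (bH j)) =
          φ (dlt C bH i) * φ (dlt C bH j) * (x (bH i) * y (bH j)) by ring, hprod, Finset.sum_mul]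
        exact Finset.sum_congr rfl fun l _ => by ring
    _ = ∑ l, φ (dlt C bH l) * ∑ i, ∑ j, φ.comp (IsScalarTower.toAlgHom k R (TwD C))
          ((dlt C bH i * dlt C bH j).fn (bH l)) * (x (bH i) * y (bH j)) := by
        simp only [Finset.mul_sum]
        exact (Finset.sum_congr rfl fun i _ => Finset.sum_comm).trans Finset.sum_comm
    _ = _ := Finset.sum_congr rfl fun l _ => by
        rw [← mul_assoc, mul_comm _ (φ (dlt C bH l)), mul_assoc, ← ev2_comul (φ.comp (IsScalarTower.toAlgHom k R (TwD C))) x y,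
          ← map_mul, ev2_eq_sum C bH φ x y]
        rfl

theorem ev1_onePt_taut : ev1 φ onePt (taut C bH) = 1 := by
  have h1 : (1 : TwD C) = ∑ i, (1 : TwD C).fn (bH i) • dlt C bH i := (sum_dlt C bH 1).symm
  rw [ev1_taut, ← map_one φ, h1, map_sum]
  refine Finset.sum_congr rfl fun i _ => ?_
  rw [map_smul_tw, mul_comm]
  congr 1
  exact ((φ.comp (IsScalarTower.toAlgHom k R (TwD C))).commutes _).symm

theorem isUnit_taut : IsUnit (taut C bH) := by
  let φ : TwD C →ₐ[k] TwD C ⊗[k] H := includeLeft
  let x : H →ₐ[k] TwD C ⊗[k] H := includeRight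
  let y : H →ₐ[k] TwD C ⊗[k] H := x.comp (HopfAlgebra.antipodeAlgHom k H)
  have hxy : mulPt x y = onePt := AlgHom.ext fun w => by
    show (Algebra.TensorProduct.lmul' k) ((Algebra.TensorProduct.map x y) (CoalgebraStruct.comul (R := k) w)) = _
    have h := congrArg x (HopfAlgebra.mul_antipode_lTensor_comul_apply (R := k) w)
    rw [AlgHom.commutes] at h
    refine Eq.trans ?_ h
    generalize CoalgebraStruct.comul (R := k) w = z
    induction z using TensorProduct.induction_on with
    | zero => simp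
    | tmul a b => simp [y]
    | add a b ha hb => simp only [map_add, ha, hb]
  have h := taut_eq C bH φ x y
  rw [hxy, ev1_onePt_taut, mul_one] at h
  have hid : ev1 φ x = AlgHom.id k _ :=
    Algebra.TensorProduct.ext (AlgHom.ext fun s => by simp [φ]) (AlgHom.ext fun s => by simp [x])
  rw [hid] at h
  exact isUnit_of_mul_isUnit_left (h ▸ C.h.isUnit.map _)

end Twist

theorem ringCocycle_finite [Coalgebra.IsCocomm k H] [Module.Finite k H] : RingCocycle k H := by
  intro R _ _ h hsym hnorm hcoc
  let C : Cocyc k H R := ⟨h, hsym, hnorm, hcoc⟩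
  let bH := Module.finBasis k H
  let e : (Fin (Module.finrank k H) → R) ≃ₗ[R] TwD C := bH.constr R
  haveI : Module.Free R (TwD C) := Module.Free.of_equiv e
  haveI : Module.Finite R (TwD C) := Module.Finite.equiv e
  haveI : Module.FinitePresentation R (TwD C) := Module.finitePresentation_of_projective R (TwD C)
  refine ⟨TwD C, inferInstance, inferInstance, inferInstance, inferInstance, inferInstance,
    Algebra.FinitePresentation.of_finitePresentation R (TwD C), fun q => ?_, (isUnit_taut C bH).unit⁻¹,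
    fun A _ _ φ x y => ?_⟩
  · haveI : Nontrivial R := q.nontrivial
    haveI : Nontrivial (TwD C) := ⟨⟨1, 0, fun hc => one_ne_zero (α := R) ?_⟩⟩
    · exact PrimeSpectrum.comap_surjective_of_faithfullyFlat q
    have := congrArg (fun a : TwD C => a.fn (1 : H)) hc
    show (1 : R) = 0
    simpa [TwD.fn, show (1 : TwD C) = twOne C from rfl, twOne, TwD.mk] using this
  · have key := taut_eq C bH φ x y
    have hv : ∀ z : H →ₐ[k] A, ev1 φ z (taut C bH) * ev1 φ z (↑(isUnit_taut C bH).unit⁻¹ : TwD C ⊗[k] H) = 1 := fun z => by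
      rw [← map_mul, IsUnit.mul_val_inv, map_one]
    have alg : ∀ a b c d a' b' c' : A, a * b = d * c → a * a' = 1 → b * b' = 1 → c * c' = 1 → d * (a' * b') = c' :=
      fun a b c d a' b' c' key ha hb hc => by
        linear_combination (-c' * a' * b') * key + (-(d * a' * b')) * hc + (c' * b * b') * ha + c' * hb
    exact alg _ _ _ _ _ _ _ key (hv x) (hv y) (hv (mulPt x y))

theorem liftsLoc_finite [Coalgebra.IsCocomm k H] [Module.Finite k H] :
    LiftsLoc (CGrpSh.pts AlgebraicGeometry.Scheme.fppfPrecoverage (Groth.L25.Bridge.P k H)) :=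
  liftsLoc_of_ring ringPic_finite ringCocycle_finite

end Groth.L07.ExtShAff
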