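import Groth.Agent.L07.ExtShAff.HopfSeq
import Groth.Agent.L07.ExtShAff.FiniteRing
import Groth.Agent.L07.GaDD.Sheaf
import Groth.Agent.L25.HopfSub
import Groth.Agent.L01.UnipSplit.SmoothKer

/-!
# The step given by a primitive element
-/

universe u

open CategoryTheory CategoryTheory.Limits AlgebraicGeometry Opposite TensorProduct Polynomial
open MonoidalCategory CartesianMonoidalCategory
open scoped MonObj
open Groth.L07.GaExt (fn fn_comp)
open Groth.L07.GaDD (isIso_of_affine)
open Groth.L08.TorusQuot (SP spA sp toPt ofPt toPt_ofPt)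
open Groth.L25.Bridge (P)
open Groth.L01.SmoothKer (IsPrim)
open WithConv

set_option autoImplicit false
set_option backward.isDefEq.respectTransparency false
set_option backward.isDefEq.respectTransparency.types false
set_option linter.style.haveILetI false
set_option maxHeartbeats 1000000
set_option synthInstance.maxHeartbeats 200000

noncomputable section

namespace Groth.L07.ExtShAff

local notation "Kf" => Scheme.fppfPrecoverage

variable {k : Type u} [Field k] {B : Type u} [CommRing B] [HopfAlgebra k B] [Coalgebra.IsCocomm k B]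

theorem mulPt_prim {R : Type u} [CommRing R] [Algebra k R] {g : B} (hg : IsPrim (k := k) g) (x y : B →ₐ[k] R) :
    mulPt x y g = x g + y g := by
  show (toConv x * toConv y).ofConv g = _
  rw [AlgHom.convMul_apply, show Coalgebra.comul (R := k) g = _ from hg]
  simp

/-- a primitive element gives a map to the additive group -/
def gaMap (g : B) : P k B ⟶ Red.Ga (Spec (CommRingCat.of k)) :=
  Groth.L25.GaPts.ptOfElt ((Scheme.ΓSpecIso (CommRingCat.of B)).inv g)

theorem gaFn_gaMap {R : Type u} [CommRing R] [Algebra k R] (g : B) (x : B →ₐ[k] R) :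
    Red.gaFn ((toPt (toConv x) : SP k R ⟶ P k B) ≫ gaMap g) = em R (x g) := by
  rw [Groth.L25.GaPts.gaFn_comp, gaMap, Groth.L25.GaPts.gaFn_ptOfElt]
  exact fn_spA x g

theorem gaMap_mul {g : B} (hg : IsPrim (k := k) g) {W : Over (Spec (CommRingCat.of k))} (t t' : W ⟶ P k B) :
    (t * t') ≫ gaMap g = (t ≫ gaMap g) * (t' ≫ gaMap g) := by
  let x : B →ₐ[k] B ⊗[k] B := Algebra.TensorProduct.includeLeft
  let y : B →ₐ[k] B ⊗[k] B := Algebra.TensorProduct.includeRight
  obtain ⟨P₂, h₀⟩ : ∃ P₂ : W ⟶ SP k (B ⊗[k] B), lift t t' = P₂ ≫ lift (toPt (toConv x)) (toPt (toConv y)) := by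
    refine ⟨lift t t' ≫ inv (prodSP k B B), ?_⟩
    show _ = _ ≫ prodSP k B B
    exact (IsIso.inv_hom_id (prodSP k B B) ▸ (Category.comp_id (lift t t')).symm).trans (Category.assoc _ _ _).symm
  have ht : t = P₂ ≫ toPt (toConv x) := by
    have := congrArg (· ≫ fst _ _) h₀
    simpa using this
  have ht' : t' = P₂ ≫ toPt (toConv y) := by
    have := congrArg (· ≫ snd _ _) h₀
    simpa using this
  rw [ht, ht', ← MonObj.comp_mul, Category.assoc, Category.assoc, Category.assoc, ← MonObj.comp_mul]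
  congr 1
  apply Groth.L25.GaPts.gaFn_injective
  show Red.gaFn _ = Red.gaFn _
  rw [toPt_mulPt, gaFn_gaMap, Groth.L25.GaPts.gaFn_mul, gaFn_gaMap, gaFn_gaMap, mulPt_prim hg, map_add]

theorem isMonHom_gaMap {g : B} (hg : IsPrim (k := k) g) : IsMonHom (gaMap (k := k) g) where
  one_hom := by
    have h := congrArg (fun t => Red.gaFn t)
      (gaMap_mul hg (1 : 𝟙_ (Over (Spec (CommRingCat.of k))) ⟶ P k B) 1)
    simp only [_root_.one_mul, Groth.L25.GaPts.gaFn_mul] at h
    have h1 : (1 : 𝟙_ (Over (Spec (CommRingCat.of k))) ⟶ P k B) ≫ gaMap g = 1 :=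
      Groth.L25.GaPts.gaFn_injective (Eq.trans (left_eq_add.1 h) Groth.L25.GaPts.gaFn_one.symm)
    rw [Hom.one_def, Hom.one_def, toUnit_unique (toUnit (𝟙_ (Over (Spec (CommRingCat.of k))))) (𝟙 _),
      Category.id_comp, Category.id_comp] at h1
    exact h1
  mul_hom := by
    rw [MonObj.mul_eq_mul, gaMap_mul hg, tensorHom_def]
    rw [MonObj.mul_eq_mul, MonObj.comp_mul]
    congr 1
    · simp
    · simp

/-- points of the group of a Hopf algebra generated by a transcendental primitive are those of the additive group -/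
theorem nonempty_iso_Ga {g : B} (hg : IsPrim (k := k) g) (hbij : Function.Bijective (aeval g : k[X] →ₐ[k] B)) :
    Nonempty (CGrpSh.pts Kf (P k B) ≅ CGrpSh2.Ga Kf (Spec (CommRingCat.of k))) := by
  haveI := isMonHom_gaMap hg
  haveI : IsIso (CGrpSh.ptsMap Kf (gaMap (k := k) g)) := by
    refine isIso_of_affine _ (fun R _ s => ?_) (fun R _ s => ?_)
    all_goals
      obtain ⟨φ, rfl⟩ : ∃ φ : CommRingCat.of k ⟶ CommRingCat.of R, Spec.map φ = s := ⟨_, Spec.map_preimage _⟩
      letI : Algebra k R := φ.hom.toAlgebra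
      let e := AlgEquiv.ofBijective (aeval g : k[X] →ₐ[k] B) hbij
    · intro a b hab
      have h1 : (a.down.toMul : SP k R ⟶ P k B) ≫ gaMap g = (b.down.toMul : SP k R ⟶ P k B) ≫ gaMap g :=
        congrArg Additive.toMul (congrArg ULift.down hab)
      have hx : ∀ u : SP k R ⟶ P k B, u = toPt (toConv (ofPt u).ofConv) := fun u => (toPt_ofPt u).symm
      rw [hx a.down.toMul, hx b.down.toMul] at h1
      have h2 := em_bijective.1 ((gaFn_gaMap g _).symm.trans ((congrArg Red.gaFn h1).trans (gaFn_gaMap g _)))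
      refine ULift.ext _ _ (congrArg Additive.ofMul ?_)
      refine (hx a.down.toMul).trans (Eq.trans ?_ (hx b.down.toMul).symm)
      refine congrArg toPt (congrArg toConv (AlgHom.ext fun c => ?_))
      obtain ⟨q, rfl⟩ := hbij.2 c
      exact AlgHom.congr_fun (Polynomial.algHom_ext (f := (ofPt a.down.toMul).ofConv.comp (aeval g))
        (g := (ofPt b.down.toMul).ofConv.comp (aeval g)) (by simpa using h2)) q
    · intro y
      obtain ⟨r, hr⟩ := em_bijective.2 (Red.gaFn (y.down.toMul : SP k R ⟶ Red.Ga _))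
      refine ⟨ULift.up (Additive.ofMul (toPt (toConv ((aeval r).comp e.symm.toAlgHom)))), ?_⟩
      refine ULift.ext _ _ (congrArg Additive.ofMul ?_)
      apply Groth.L25.GaPts.gaFn_injective
      refine (gaFn_gaMap g _).trans ?_
      have hX : e.symm g = X := e.injective (by rw [AlgEquiv.apply_symm_apply]; simp [e])
      show em R (aeval r (e.symm g)) = _
      rw [hX, aeval_X, hr]
      rfl
  exact ⟨asIso (CGrpSh.ptsMap Kf (gaMap (k := k) g))⟩

variable {A : Type u} [CommRing A] [HopfAlgebra k A] [Coalgebra.IsCocomm k A] [Algebra.FiniteType k A]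

theorem isHopfSubalgebra_adjoin {g : A} (hg : IsPrim (k := k) g) :
    SGA3.IsHopfSubalgebra k A (Algebra.adjoin k {g}) := by
  let B := Algebra.adjoin k {g}
  have h1 : B ≤ (Groth.L25.HopfSub.j B).range.comap (Bialgebra.comulAlgHom k A) := by
    refine Algebra.adjoin_le fun z hz => ?_
    rw [Set.mem_singleton_iff.1 hz]
    exact ⟨(⟨g, Algebra.self_mem_adjoin_singleton k g⟩ : B) ⊗ₜ (1 : B) + (1 : B) ⊗ₜ ⟨g, Algebra.self_mem_adjoin_singleton k g⟩,
      by simpa [map_add] using (hg : Coalgebra.comul (R := k) g = _).symm⟩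
  have h2 : B ≤ B.comap (HopfAlgebra.antipodeAlgHom k A) := by
    refine Algebra.adjoin_le fun z hz => ?_
    rw [Set.mem_singleton_iff.1 hz]
    show HopfAlgebraStruct.antipode k g ∈ B
    rw [hg.antipode]
    exact neg_mem (Algebra.self_mem_adjoin_singleton k g)
  refine ⟨fun b hb => ?_, fun b hb => h2 hb⟩
  obtain ⟨z, hz⟩ := h1 hb
  exact ⟨z, hz⟩

/-- **the step**: a nonzero primitive reduces local lifting to a proper quotient -/
theorem liftsLoc_of_prim (p : ℕ) [Fact p.Prime] [CharP k p] {g : A} (hg : IsPrim (k := k) g) (h0 : g ≠ 0)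
    (hrec : ∀ (Q : Type u) [CommRing Q] [HopfAlgebra k Q] (π : A →ₐc[k] Q) [Coalgebra.IsCocomm k Q],
      Function.Surjective π → RingHom.ker (π : A →+* Q) ≠ ⊥ → LiftsLoc (CGrpSh.pts Kf (P k Q))) :
    LiftsLoc (CGrpSh.pts Kf (P k A)) := by
  let B := Algebra.adjoin k {g}
  letI := Groth.L25.HopfSub.hopfAlgebra (isHopfSubalgebra_adjoin hg)
  let ψ : B →ₐc[k] A := Groth.L25.HopfSub.inclBialg (isHopfSubalgebra_adjoin hg)
  have hψ : Function.Injective ψ := Subtype.val_injective
  have hinj2 : Function.Injective (TensorProduct.map (ψ : B →ₗ[k] A) (ψ : B →ₗ[k] A)) :=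
    TensorProduct.map_injective_of_flat_flat _ _ hψ hψ
  haveI : Coalgebra.IsCocomm k B := ⟨LinearMap.ext fun b => hinj2 (by
    rw [LinearMap.comp_apply, CoalgHomClass.map_comp_comul_apply]
    show TensorProduct.map (ψ : B →ₗ[k] A) (ψ : B →ₗ[k] A) (TensorProduct.comm k B B (Coalgebra.comul b)) = _
    rw [TensorProduct.map_comm, CoalgHomClass.map_comp_comul_apply, Coalgebra.comm_comul])⟩
  haveI : Algebra.FiniteType k B := (Subalgebra.fg_iff_finiteType _).1 ⟨{g}, by rw [Finset.coe_singleton]⟩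
  let g' : B := ⟨g, Algebra.self_mem_adjoin_singleton k g⟩
  have hg' : IsPrim (k := k) g' := hinj2 (by
    rw [CoalgHomClass.map_comp_comul_apply, map_add, TensorProduct.map_tmul, TensorProduct.map_tmul]
    exact hg)
  have hsurj : Function.Surjective (aeval g' : k[X] →ₐ[k] B) := fun b => by
    obtain ⟨q, hq⟩ := (Algebra.adjoin_singleton_eq_range_aeval k g).le b.2
    exact ⟨q, Subtype.ext ((Polynomial.aeval_algHom_apply B.val g' q).symm.trans hq)⟩
  have hB : LiftsLoc (CGrpSh.pts Kf (P k B)) := by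
    by_cases hinj : Function.Injective (aeval g' : k[X] →ₐ[k] B)
    · obtain ⟨e⟩ := nonempty_iso_Ga hg' ⟨hinj, hsurj⟩
      refine liftsLoc_of_iso e (liftsLoc_Ga p ?_)
      rw [← map_natCast (Scheme.ΓSpecIso (CommRingCat.of k)).inv.hom, CharP.cast_eq_zero, map_zero]
    · haveI : Module.Finite k B := by
        obtain ⟨q, hq, hq0⟩ : ∃ q : k[X], aeval g' q = 0 ∧ q ≠ 0 := by
          by_contra hne
          push Not at hne
          exact hinj ((injective_iff_map_eq_zero _).2 hne)
        have : IsIntegral k g := by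
          refine isAlgebraic_iff_isIntegral.1 ⟨q, hq0, ?_⟩
          have h := congrArg B.val hq
          rwa [← Polynomial.aeval_algHom_apply, map_zero] at h
        exact Module.Finite.iff_fg.2 this.fg_adjoin_singleton
      exact liftsLoc_finite
  have hne : RingHom.ker (kq ψ : A →+* A ⧸ kerIdeal ψ) ≠ ⊥ := fun hbot => h0 (by
    have : g ∈ RingHom.ker (kq ψ : A →+* A ⧸ kerIdeal ψ) := by
      rw [RingHom.mem_ker]
      exact Ideal.Quotient.eq_zero_iff_mem.2 (Ideal.mem_map_of_mem _ (show g' ∈ _ from hg'.counit))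
    rwa [hbot] at this)
  exact liftsLoc_of_shortExact (shortExact_seq ψ hψ) (hrec _ (kq ψ) (kq_surjective ψ) hne) hB

end Groth.L07.ExtShAff
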