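import Groth.Agent.L07.ExtShAff.HopfObl
import Groth.Agent.L25.UnipExt
import Groth.Agent.L25.MultSub.Alg
import Groth.Agent.L27.FppfCmp.LocExact

/-!
# The exact sequence of sheaves of an inclusion of commutative Hopf algebras over a field
-/

universe u

open CategoryTheory CategoryTheory.Limits AlgebraicGeometry Opposite TensorProduct
open MonoidalCategory CartesianMonoidalCategory
open scoped MonObj
open Groth.L07.ExtShGa (ofArrows_mem)
open Groth.L08.TorusQuot (SP spA sp sp_left toPt ofPt toPt_post toPt_pre toPt_ofPt ofPt_toPt toPt_one pre)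
open Groth.L25.Bridge (P)
open WithConv

set_option autoImplicit false
set_option backward.isDefEq.respectTransparency false
set_option backward.isDefEq.respectTransparency.types false
set_option linter.style.haveILetI false
set_option maxHeartbeats 1000000

noncomputable section

namespace Groth.L07.ExtShAff

local notation "Kf" => Scheme.fppfPrecoverage

variable {k : Type u} [Field k] {A C : Type u} [CommRing A] [HopfAlgebra k A] [CommRing C] [HopfAlgebra k C]
  (ψ : C →ₐc[k] A)

/-- sieves containing the affine spectra cover -/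
theorem covering_of_SP {X : Over (Spec (CommRingCat.of k))} (L : Sieve X)
    (h : ∀ (R : Type u) [CommRing R] [Algebra k R] (b : SP k R ⟶ X),
      Sieve.pullback b L ∈ QuotSh.J Kf (Spec (CommRingCat.of k)) (SP k R)) :
    L ∈ QuotSh.J Kf (Spec (CommRingCat.of k)) X :=
  covering_of_affine L fun Y hY b => by
    obtain ⟨R, _, _, ⟨e⟩⟩ := exists_SP Y hY
    have := (QuotSh.J Kf (Spec (CommRingCat.of k))).pullback_stable e.inv (h R (e.hom ≫ b))
    rwa [← Sieve.pullback_comp, Iso.inv_hom_id_assoc] at this

/-- the ideal of the kernel -/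
abbrev kerIdeal : Ideal A := Ideal.map (ψ : C →+* A) (RingHom.ker (Bialgebra.counitAlgHom k C))

theorem mk_comp_ψ (c : C) :
    Ideal.Quotient.mkₐ k (kerIdeal ψ) (ψ c) = algebraMap k _ (Coalgebra.counit (R := k) c) := by
  rw [← sub_eq_zero]
  show Ideal.Quotient.mkₐ k (kerIdeal ψ) (ψ c) - _ = 0
  rw [← AlgHom.commutes (Ideal.Quotient.mkₐ k (kerIdeal ψ)), ← map_sub, Ideal.Quotient.mkₐ_eq_mk,
    Ideal.Quotient.eq_zero_iff_mem]
  have : algebraMap k A (Coalgebra.counit (R := k) c) = ψ (algebraMap k C (Coalgebra.counit (R := k) c)) :=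
    ((ψ : C →ₐ[k] A).commutes _).symm
  rw [this, ← map_sub]
  refine Ideal.mem_map_of_mem _ ?_
  rw [RingHom.mem_ker]
  show Bialgebra.counitAlgHom k C (c - _) = 0
  rw [map_sub, AlgHom.commutes]
  exact sub_self _

instance isHopfIdeal_kerIdeal : (kerIdeal ψ).IsHopfIdeal k := by
  have hle : ∀ {T : Type u} [CommRing T] (f : A →+* T), (∀ c : C, Coalgebra.counit (R := k) c = 0 → f (ψ c) = 0) →
      ∀ x ∈ kerIdeal ψ, f x = 0 := fun f hf x hx =>
    (Ideal.map_le_iff_le_comap (K := RingHom.ker f)).2 (fun c hc => hf c hc) hx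
  refine { toIsCoideal := ⟨fun x hx => ?_, fun x hx => ?_⟩, antipode_mem := fun x hx => ?_ }
  · exact hle ((Bialgebra.counitAlgHom k A : A →ₐ[k] k) : A →+* k) (fun c hc => by
      show Coalgebra.counit (R := k) (ψ c) = 0
      rw [CoalgHomClass.counit_comp_apply, hc]) x hx
  · let m := Ideal.Quotient.mkₐ k (kerIdeal ψ)
    have key : ∀ w : C ⊗[k] C, Algebra.TensorProduct.map m m (TensorProduct.map (ψ : C →ₗ[k] A) (ψ : C →ₗ[k] A) w) =
        algebraMap k _ (LinearMap.mul' k k (TensorProduct.map (Coalgebra.counit (R := k)) (Coalgebra.counit (R := k)) w)) := by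
      intro w
      induction w using TensorProduct.induction_on with
      | zero => simp
      | add a b ha hb => simp only [map_add, ha, hb]
      | tmul a b =>
        rw [TensorProduct.map_tmul, Algebra.TensorProduct.map_tmul, TensorProduct.map_tmul, LinearMap.mul'_apply]
        show m (ψ a) ⊗ₜ m (ψ b) = _
        rw [mk_comp_ψ, mk_comp_ψ, Algebra.TensorProduct.algebraMap_apply, map_mul]
        simp [Algebra.algebraMap_eq_smul_one, TensorProduct.smul_tmul']
    exact hle ((Algebra.TensorProduct.map m m).comp (Bialgebra.comulAlgHom k A)).toRingHom (fun c hc => by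
      show Algebra.TensorProduct.map m m (Coalgebra.comul (R := k) (ψ c)) = 0
      rw [← CoalgHomClass.map_comp_comul_apply ψ c, key]
      have : LinearMap.mul' k k (TensorProduct.map (Coalgebra.counit (R := k)) (Coalgebra.counit (R := k))
          (Coalgebra.comul (R := k) c)) = Coalgebra.counit (R := k) c := by
        rw [← LinearMap.lTensor_comp_rTensor, LinearMap.comp_apply, Coalgebra.rTensor_counit_comul,
          LinearMap.lTensor_tmul, LinearMap.mul'_apply, one_mul]
      rw [this, hc, map_zero]) x hx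
  · refine (Ideal.Quotient.eq_zero_iff_mem).1 (hle
      ((Ideal.Quotient.mk (kerIdeal ψ)).comp (HopfAlgebra.antipodeAlgHom k A).toRingHom) (fun c hc => ?_) x hx)
    show Ideal.Quotient.mkₐ k (kerIdeal ψ) (HopfAlgebraStruct.antipode k (ψ c)) = 0
    rw [← Groth.L25.Char.bialgHom_antipode ψ c, mk_comp_ψ, HopfAlgebra.counit_antipode, hc, map_zero]

/-- the projection to the kernel -/
abbrev kq : A →ₐc[k] A ⧸ kerIdeal ψ := Bialgebra.Quotient.mkBialgHom (R := k) (kerIdeal ψ)

theorem kq_surjective : Function.Surjective (kq ψ) := Ideal.Quotient.mk_surjective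

instance [Coalgebra.IsCocomm k A] : Coalgebra.IsCocomm k (A ⧸ kerIdeal ψ) :=
  Groth.L25.MultSub.isCocomm_of_surjective (kq ψ) (kq_surjective ψ)

theorem spA_bialg {B : Type u} [CommRing B] [HopfAlgebra k B] (f : B →ₐc[k] A) : sp f = spA (f : B →ₐ[k] A) :=
  Over.OverMorphism.ext rfl

theorem sp_kq_comp_sp : sp (kq ψ) ≫ sp ψ = 1 := by
  rw [spA_bialg, spA_bialg, spA_comp, toPt_onePt]
  refine congrArg (fun x => spA x) (AlgHom.ext fun c => ?_)
  exact mk_comp_ψ ψ c

variable [Coalgebra.IsCocomm k A] [Coalgebra.IsCocomm k C] [Algebra.FiniteType k A] [Algebra.FiniteType k C]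

/-- **the exact sequence of sheaves** -/
theorem shortExact_seq (hψ : Function.Injective ψ) :
    (CGrpSh.seq Kf (sp (kq ψ)) (sp ψ) (sp_kq_comp_sp ψ)).ShortExact := by
  haveI : IsClosedImmersion (sp (kq ψ)).left := by
    rw [sp_left]
    exact IsClosedImmersion.spec_of_surjective _ (kq_surjective ψ)
  haveI : Mono (sp (kq ψ)) := Over.mono_of_mono_left _
  refine { exact := ?_, mono_f := ?_, epi_g := ?_ }
  · refine (Groth.L27.FppfCmp.exact_iff_locally _).2 fun X x hx => ?_
    let L : Sieve X :=
      { arrows := fun Y a => ∃ g : Y ⟶ P k (A ⧸ kerIdeal ψ), g ≫ sp (kq ψ) = a ≫ x.down.toMul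
        downward_closed := fun {Y Z a} ⟨g, hg⟩ b => ⟨b ≫ g, by rw [Category.assoc, hg, Category.assoc]⟩ }
    refine ⟨L, covering_of_SP L fun R _ _ b => ?_, fun Y a ⟨g, hg⟩ => ⟨ULift.up (Additive.ofMul g),
      congrArg ULift.up (congrArg Additive.ofMul hg)⟩⟩
    refine GrothendieckTopology.superset_covering _ (fun Y a _ => L.downward_closed (?_ : L b) a)
      ((QuotSh.J Kf (Spec (CommRingCat.of k))).top_mem (SP k R))
    let y := ofPt (b ≫ x.down.toMul)
    have hy : pre ψ y = 1 := by
      apply (Spec.mapMulEquiv (R := k) (S := C) (T := R)).injective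
      show toPt (pre ψ y) = toPt 1
      rw [toPt_pre, toPt_ofPt, Category.assoc, toPt_one]
      have e : (x.down.toMul : X ⟶ P k A) ≫ sp ψ = 1 := congrArg Additive.toMul (congrArg ULift.down hx)
      rw [e, MonObj.comp_one]
    have hk : ∀ a ∈ kerIdeal ψ, y.ofConv a = 0 :=
      fun a ha => (Ideal.map_le_iff_le_comap (K := RingHom.ker (y.ofConv : A →+* R))).2 (fun c hc => by
        show y.ofConv (ψ c) = 0
        have := AlgHom.congr_fun (congrArg WithConv.ofConv hy) c
        refine this.trans ?_
        rw [AlgHom.convOne_apply, show Coalgebra.counit (R := k) c = 0 from hc, map_zero]) ha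
    refine ⟨toPt (toConv (Ideal.Quotient.liftₐ (kerIdeal ψ) y.ofConv hk)), ?_⟩
    rw [← toPt_pre, ← toPt_ofPt (b ≫ x.down.toMul)]
    rfl
  · exact Groth.L08.DoubleDual.mono_of_app _ fun X x x' h => by
      have h1 : (x.down.toMul : X ⟶ P k (A ⧸ kerIdeal ψ)) ≫ sp (kq ψ) = x'.down.toMul ≫ sp (kq ψ) :=
        congrArg Additive.toMul (congrArg ULift.down h)
      exact ULift.ext _ _ (congrArg Additive.ofMul ((cancel_mono (sp (kq ψ))).1 h1))
  · rw [← Sheaf.isLocallySurjective_iff_epi']
    refine ⟨fun {X} x => ?_⟩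
    refine covering_of_SP _ fun R _ _ b => ?_
    let y := (ofPt (b ≫ x.down.toMul)).ofConv
    letI : Algebra C A := (ψ : C →ₐ[k] A).toRingHom.toAlgebra
    haveI : IsScalarTower k C A := IsScalarTower.of_algebraMap_eq fun r => ((ψ : C →ₐ[k] A).commutes r).symm
    haveI : Module.FaithfullyFlat C A := Groth.L25.HopfFlat.faithfullyFlat_of_fg hψ ψ fun _ => rfl
    haveI : IsNoetherianRing C := Algebra.FiniteType.isNoetherianRing k C
    haveI : Algebra.FiniteType C A := Algebra.FiniteType.of_restrictScalars_finiteType k C A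
    haveI : Algebra.FinitePresentation C A := Algebra.FinitePresentation.of_finiteType.1 inferInstance
    letI : Algebra C R := y.toRingHom.toAlgebra
    haveI : IsScalarTower k C R := IsScalarTower.of_algebraMap_eq fun r => (y.commutes r).symm
    let S := R ⊗[C] A
    let π : SP k S ⟶ SP k R := spA (IsScalarTower.toAlgHom k R S)
    obtain ⟨hfl, hfp⟩ := flat_fp (R := R) (S := S)
    refine GrothendieckTopology.superset_covering _ ?_ (ofArrows_mem (κ := PUnit.{1}) (fun _ => SP k S) (fun _ => π)
      (fun _ => hfl) (fun _ => hfp) fun q => ⟨PUnit.unit, PrimeSpectrum.comap_surjective_of_faithfullyFlat (B := S) q⟩)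
    rintro Y _ ⟨_, d, _, ⟨⟩, rfl⟩
    refine Sieve.downward_closed _ ?_ d
    let z : A →ₐ[k] S := (Algebra.TensorProduct.includeRight : A →ₐ[C] S).restrictScalars k
    refine ⟨ULift.up (Additive.ofMul (toPt (toConv z))), congrArg ULift.up (congrArg Additive.ofMul ?_)⟩
    show toPt (toConv z) ≫ sp ψ = (π ≫ b) ≫ x.down.toMul
    rw [Category.assoc, ← toPt_pre, ← toPt_ofPt (b ≫ x.down.toMul), ← toPt_post]
    refine congrArg toPt (WithConv.ofConv_injective (AlgHom.ext fun c => ?_))
    show (1 : R) ⊗ₜ[C] ψ c = y c ⊗ₜ[C] (1 : A)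
    exact (Algebra.TensorProduct.tmul_one_eq_one_tmul (R := C) (A := R) (B := A) c).symm
where
  flat_fp {R S : Type u} [CommRing R] [CommRing S] [Algebra R S] [Module.Flat R S] [Algebra.FinitePresentation R S] :
      Flat (Spec.map (CommRingCat.ofHom (algebraMap R S))) ∧
        LocallyOfFinitePresentation (Spec.map (CommRingCat.ofHom (algebraMap R S))) := by
    constructor
    · rw [HasRingHomProperty.Spec_iff (P := @Flat)]
      exact RingHom.flat_algebraMap_iff.2 inferInstance
    · rw [HasRingHomProperty.Spec_iff (P := @LocallyOfFinitePresentation)]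
      exact RingHom.finitePresentation_algebraMap.2 inferInstance

end Groth.L07.ExtShAff
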