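import Groth.Agent.L07.ExtShGa.Main

/-!
# Local lifting into quotients by units, and vanishing of the first Ext sheaf by the multiplicative group
-/

universe u

open CategoryTheory CategoryTheory.Limits AlgebraicGeometry Opposite

set_option autoImplicit false
set_option backward.defeqAttrib.useBackward true
set_option backward.isDefEq.respectTransparency false
set_option backward.isDefEq.respectTransparency.types false
set_option linter.style.haveILetI false
set_option maxHeartbeats 1000000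

noncomputable section

namespace Groth.L07.ExtShAff

local notation "Kf" => Scheme.fppfPrecoverage

open Groth.L08.DoubleDual (restr restr_comp_right restr_comp_left injective_overPullback shortExact_over exact_over)
open Groth.L07.ExtShGa (ofArrows_mem restr_restr)

variable {S : Scheme.{u}}

local notation "res" => GrothendieckTopology.overPullback (QuotSh.J Scheme.fppfPrecoverage S) AddCommGrpCat

/-- local homomorphisms from `G` into quotients of injective sheaves by units lift locally -/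
def LiftsLoc (G : BigSite.Ab Kf S) : Prop :=
  ∀ (Sh : ShortComplex (BigSite.Ab Kf S)), Sh.ShortExact → Injective Sh.X₂ → (Sh.X₁.obj ≅ GmPts.unitsPre S) →
    ∀ (X : Over S) (φ : G.over X ⟶ Sh.X₃.over X), ∃ Rs ∈ QuotSh.J Kf S X, ∀ ⦃X' : Over S⦄ (a : X' ⟶ X), Rs a →
      ∃ ψ : G.over X' ⟶ Sh.X₂.over X', ψ ≫ (res X').map Sh.g = restr a φ

/-- the sieve of the maps along which a local homomorphism lifts -/
def liftSieve {G I Q : BigSite.Ab Kf S} (g : I ⟶ Q) {X : Over S} (φ : G.over X ⟶ Q.over X) : Sieve X where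
  arrows X' a := ∃ ψ : G.over X' ⟶ I.over X', ψ ≫ (res X').map g = restr a φ
  downward_closed := fun {Y Z a} ⟨ψ, hψ⟩ b => ⟨restr b ψ, by rw [← restr_comp_right, hψ, restr_restr]⟩

theorem liftsLoc_Ga (p : ℕ) [Fact p.Prime] (hp : (p : Γ(S, ⊤)) = 0) : LiftsLoc (CGrpSh2.Ga Kf S) :=
  fun _ hSh _ i₁ X φ => Groth.L07.ExtShGa.exists_lift_locally p hp hSh i₁ X φ

theorem liftsLoc_of_iso {G H : BigSite.Ab Kf S} (e : G ≅ H) (h : LiftsLoc H) : LiftsLoc G :=
  fun Sh hSh hI i₁ X φ => by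
    obtain ⟨Rs, hRs, hR⟩ := h Sh hSh hI i₁ X ((res X).map e.inv ≫ φ)
    refine ⟨Rs, hRs, fun X' a ha => ?_⟩
    obtain ⟨ψ, hψ⟩ := hR a ha
    refine ⟨(res X').map e.hom ≫ ψ, ?_⟩
    rw [Category.assoc, hψ, restr_comp_left, ← Category.assoc, ← Functor.map_comp, e.hom_inv_id,
      CategoryTheory.Functor.map_id]
    exact Category.id_comp _

theorem liftsLoc_of_isZero {G : BigSite.Ab Kf S} (h : IsZero G) : LiftsLoc G :=
  fun Sh _ _ _ X φ => ⟨⊤, (QuotSh.J Kf S).top_mem X, fun X' a _ => ⟨0, by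
    have hz : IsZero (G.over X') := Functor.map_isZero (res X') h
    exact hz.eq_of_src _ _⟩⟩

/-- local lifting is stable under extensions -/
theorem liftsLoc_of_shortExact {T : ShortComplex (BigSite.Ab Kf S)} (hT : T.ShortExact) (h₁ : LiftsLoc T.X₁)
    (h₃ : LiftsLoc T.X₃) : LiftsLoc T.X₂ := fun Sh hSh hI i₁ X φ => by
  refine ⟨liftSieve Sh.g φ, ?_, fun X' a ha => ha⟩
  obtain ⟨Rs, hRs, hR⟩ := h₁ Sh hSh hI i₁ X ((res X).map T.f ≫ φ)
  refine (QuotSh.J Kf S).transitive hRs _ fun X' a ha => ?_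
  obtain ⟨ψ₁, hψ₁⟩ := hR a ha
  haveI := hI
  haveI := injective_overPullback (QuotSh.J Kf S) X' Sh.X₂
  haveI : Mono ((res X').map T.f) := (shortExact_over (QuotSh.J Kf S) X' hT).mono_f
  let ψ : T.X₂.over X' ⟶ Sh.X₂.over X' := Injective.factorThru ψ₁ ((res X').map T.f)
  have hψ : (res X').map T.f ≫ ψ = ψ₁ := Injective.comp_factorThru _ _
  have hk : (res X').map T.f ≫ (restr a φ - ψ ≫ (res X').map Sh.g) = 0 := by
    rw [Preadditive.comp_sub, ← Category.assoc, hψ, hψ₁, restr_comp_left, sub_self]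
  haveI : Epi (T.map (res X')).g := (shortExact_over (QuotSh.J Kf S) X' hT).epi_g
  let χ : T.X₃.over X' ⟶ Sh.X₃.over X' := (shortExact_over (QuotSh.J Kf S) X' hT).exact.desc _ hk
  have hχ : (res X').map T.g ≫ χ = restr a φ - ψ ≫ (res X').map Sh.g :=
    (shortExact_over (QuotSh.J Kf S) X' hT).exact.g_desc _ hk
  obtain ⟨Rs', hRs', hR'⟩ := h₃ Sh hSh hI i₁ X' χ
  refine GrothendieckTopology.superset_covering _ (fun X'' b hb => ?_) hRs'
  obtain ⟨ψ₃, hψ₃⟩ := hR' b hb
  show ∃ ψ' : T.X₂.over X'' ⟶ Sh.X₂.over X'', ψ' ≫ (res X'').map Sh.g = restr (b ≫ a) φ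
  refine ⟨(res X'').map T.g ≫ ψ₃ + restr b ψ, ?_⟩
  rw [Preadditive.add_comp, Category.assoc, hψ₃, ← restr_comp_left, hχ, ← restr_restr a b φ,
    ← restr_comp_right]
  show (HomSh.homSh (QuotSh.J Kf S) T.X₂ Sh.X₃).obj.map b.op (restr a φ - ψ ≫ (res X').map Sh.g) +
    (HomSh.homSh (QuotSh.J Kf S) T.X₂ Sh.X₃).obj.map b.op (ψ ≫ (res X').map Sh.g) =
    (HomSh.homSh (QuotSh.J Kf S) T.X₂ Sh.X₃).obj.map b.op (restr a φ)
  rw [← map_add]
  exact congrArg _ (sub_add_cancel _ _)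

set_option maxHeartbeats 8000000 in
/-- local lifting gives the vanishing of the first Ext sheaf by the multiplicative group -/
theorem isZero_extSh_of_liftsLoc {G : BigSite.Ab Kf S} (hG : LiftsLoc G) :
    IsZero ((HomSh.extSh (QuotSh.J Kf S) G 1).obj (CGrpSh2.Gm Kf S)) := by
  let J := QuotSh.J Kf S
  let R : InjectiveResolution (CGrpSh2.Gm Kf S) := (HasInjectiveResolution.out (Z := CGrpSh2.Gm Kf S)).some
  obtain ⟨e⟩ := Groth.L07.BiextTriv.rightDerived_one_iso (HomSh.homShFunctor J G) R (HomSh.extSh J G 1)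
    (HomSh.extSh_def J G 1)
  refine IsZero.of_iso ?_ e
  refine (ShortComplex.exact_iff_isZero_homology _).1 ((Groth.L27.FppfCmp.exact_iff_locally _).2 fun X θ' hθ' => ?_)
  let θ : G.over X ⟶ (R.cocomplex.X 1).over X := θ'
  have hθ : θ ≫ (res X).map (R.cocomplex.d 1 2) = 0 := by
    refine Eq.trans ?_ hθ'
    refine Eq.trans ?_ (HomSh.homShMap_app_apply J (𝟙 G) (R.cocomplex.d 1 2) (op X) θ).symm
    rw [CategoryTheory.Functor.map_id]
    exact (Category.id_comp _).symm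
  let mI := R.ι.f 0
  haveI : Mono mI := inferInstanceAs (Mono (R.ι.f 0))
  let Sh : ShortComplex (BigSite.Ab Kf S) := ShortComplex.mk mI (cokernel.π mI) (cokernel.condition mI)
  have hSh : Sh.ShortExact := { exact := ShortComplex.exact_of_g_is_cokernel _ (cokernelIsCokernel _) }
  have hιd : mI ≫ R.cocomplex.d 0 1 = 0 := R.ι_f_zero_comp_complex_d
  let d' : cokernel mI ⟶ R.cocomplex.X 1 := cokernel.desc mI _ hιd
  let S₁ : ShortComplex (BigSite.Ab Kf S) := ShortComplex.mk d' (R.cocomplex.d 1 2) (by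
    rw [← cancel_epi (cokernel.π mI), cokernel.π_desc_assoc, HomologicalComplex.d_comp_d, comp_zero])
  haveI : Mono d' := (ShortComplex.exact_iff_mono_cokernel_desc _).1 R.exact₀
  have hS₁ : S₁.Exact := by
    have h := R.exact_succ 0
    let f : ShortComplex.mk (R.cocomplex.d 0 1) (R.cocomplex.d 1 2) (R.cocomplex.d_comp_d 0 1 2) ⟶ S₁ :=
      { τ₁ := cokernel.π mI, τ₂ := 𝟙 _, τ₃ := 𝟙 _
        comm₁₂ := (cokernel.π_desc _ _ _).trans (Category.comp_id _).symm
        comm₂₃ := (Category.id_comp _).trans (Category.comp_id _).symm }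
    haveI : Epi f.τ₁ := inferInstanceAs (Epi (cokernel.π mI))
    exact (ShortComplex.exact_iff_of_epi_of_isIso_of_mono f).1 h
  haveI : Mono (S₁.map (res X)).f := inferInstanceAs (Mono ((res X).map d'))
  let φ : G.over X ⟶ (cokernel mI).over X := (exact_over J X hS₁).lift θ hθ
  have hφ : φ ≫ (res X).map d' = θ := (exact_over J X hS₁).lift_f θ hθ
  obtain ⟨Rs, hRs, hlift⟩ := hG Sh hSh (inferInstanceAs (Injective (R.cocomplex.X 0))) (GmPts.ptsUnitsPreIso S) X φ
  refine ⟨Rs, hRs, fun X' a ha => ?_⟩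
  obtain ⟨ψ, hψ⟩ := hlift a ha
  refine ⟨ψ, (HomSh.homShMap_app_apply J (𝟙 G) (R.cocomplex.d 0 1) (op X') ψ).trans ?_⟩
  rw [CategoryTheory.Functor.map_id]
  refine (Category.id_comp _).trans ?_
  show ψ ≫ (res X').map (R.cocomplex.d 0 1) = restr a θ
  rw [show R.cocomplex.d 0 1 = Sh.g ≫ d' from (cokernel.π_desc mI _ hιd).symm, Functor.map_comp, ← Category.assoc]
  exact (congrArg (· ≫ (res X').map d') hψ).trans ((restr_comp_right a φ d').symm.trans (congrArg (restr a) hφ))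

/-- sheaves that are locally isomorphic to liftable ones lift -/
theorem liftsLoc_of_locally {G : BigSite.Ab Kf S}
    (h : ∀ X : Over S, ∃ Rs ∈ QuotSh.J Kf S X, ∀ ⦃X' : Over S⦄ (a : X' ⟶ X), Rs a →
      ∃ H : BigSite.Ab Kf S, LiftsLoc H ∧ Nonempty (G.over X' ≅ H.over X')) : LiftsLoc G :=
  fun Sh hSh hI i₁ X φ => by
    refine ⟨liftSieve Sh.g φ, ?_, fun X' a ha => ha⟩
    obtain ⟨Rs, hRs, hR⟩ := h X
    refine (QuotSh.J Kf S).transitive hRs _ fun X' a ha => ?_
    obtain ⟨H, hH, ⟨e⟩⟩ := hR a ha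
    obtain ⟨Rs', hRs', hR'⟩ := hH Sh hSh hI i₁ X' (e.inv ≫ restr a φ)
    refine GrothendieckTopology.superset_covering _ (fun X'' b hb => ?_) hRs'
    obtain ⟨ψ, hψ⟩ := hR' b hb
    show ∃ ψ' : G.over X'' ⟶ Sh.X₂.over X'', ψ' ≫ (res X'').map Sh.g = restr (b ≫ a) φ
    let e' : G.over X'' ⟶ H.over X'' := restr b e.hom
    refine ⟨e' ≫ ψ, ?_⟩
    rw [Category.assoc, hψ, ← restr_restr a b φ]
    show ((QuotSh.J Kf S).overMapPullback _ b).map e.hom ≫ ((QuotSh.J Kf S).overMapPullback _ b).map _ = _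
    rw [← Functor.map_comp, Iso.hom_inv_id_assoc]
    rfl

end Groth.L07.ExtShAff
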