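import Groth.Agent.L07.ExtShAff.GmRing
import Groth.Agent.L07.ExtShAff.Prim
import Mathlib.RingTheory.HopfAlgebra.GroupLike

/-!
# Hopf algebras generated by group-like elements, and induction over quotients
-/

universe u

open CategoryTheory CategoryTheory.Limits AlgebraicGeometry TensorProduct
open Groth.L25.Bridge (P)

set_option autoImplicit false
set_option backward.isDefEq.respectTransparency false
set_option backward.isDefEq.respectTransparency.types false
set_option linter.style.haveILetI false
set_option maxHeartbeats 1000000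
set_option synthInstance.maxHeartbeats 200000

noncomputable section

namespace Groth.L07.ExtShAff

local notation "Kf" => Scheme.fppfPrecoverage

variable {k : Type u} [Field k]

/-- induction over the quotients of a finitely generated Hopf algebra -/
theorem quot_induction {A : Type u} [CommRing A] [HopfAlgebra k A] [Algebra.FiniteType k A] [Coalgebra.IsCocomm k A]
    (Pr : ∀ (Q : Type u) [CommRing Q] [HopfAlgebra k Q], Prop)
    (step : ∀ (Q : Type u) [CommRing Q] [HopfAlgebra k Q] [Coalgebra.IsCocomm k Q] [Algebra.FiniteType k Q]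
      (π : A →ₐc[k] Q), Function.Surjective π →
      (∀ (Q' : Type u) [CommRing Q'] [HopfAlgebra k Q'] (π' : Q →ₐc[k] Q') [Coalgebra.IsCocomm k Q'],
        Function.Surjective π' → RingHom.ker (π' : Q →+* Q') ≠ ⊥ → Pr Q') → Pr Q) : Pr A := by
  haveI : IsNoetherianRing A := Algebra.FiniteType.isNoetherianRing k A
  suffices H : ∀ (I : Ideal A) (Q : Type u) [CommRing Q] [HopfAlgebra k Q] [Coalgebra.IsCocomm k Q] (π : A →ₐc[k] Q),
      Function.Surjective π → RingHom.ker (π : A →+* Q) = I → Pr Q from
    H _ A (BialgHom.id k A) Function.surjective_id rfl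
  intro I
  induction I using WellFoundedGT.induction with
  | _ I ih =>
    intro Q _ _ _ π hπ hI
    haveI : Algebra.FiniteType k Q := Algebra.FiniteType.of_surjective (π : A →ₐ[k] Q) hπ
    refine step Q π hπ fun Q' _ _ π' _ hπ' hne => ?_
    refine ih (RingHom.ker ((π'.comp π : A →ₐc[k] Q') : A →+* Q')) ?_ Q' (π'.comp π) (hπ'.comp hπ) rfl
    rw [← hI]
    refine lt_of_le_of_ne (fun x hx => ?_) fun heq => hne ?_
    · show π' (π x) = 0
      rw [show π x = 0 from hx, map_zero]
    · rw [eq_bot_iff]
      intro y hy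
      obtain ⟨x, rfl⟩ := hπ y
      have : x ∈ RingHom.ker (π : A →+* Q) := heq ▸ (show π' (π x) = 0 from hy)
      exact this

variable {A : Type u} [CommRing A] [HopfAlgebra k A]

/-- the powers of a group-like element -/
def glMon (g : GroupLike k A) : Multiplicative ℤ →* A :=
  (GroupLike.valMonoidHom (R := k) (A := A)).comp (zpowersHom (GroupLike k A) g)

omit [HopfAlgebra k A] in
theorem lift_T (F : Multiplicative ℤ →* A) [Algebra k A] (n : ℤ) :
    AddMonoidAlgebra.lift k A ℤ F (LaurentPolynomial.T n) = F (Multiplicative.ofAdd n) :=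
  (AddMonoidAlgebra.lift_single F n 1).trans (one_smul _ _)

theorem glMon_apply (g : GroupLike k A) (n : ℤ) : glMon g (Multiplicative.ofAdd n) = (g ^ n).val := rfl

/-- the map of Laurent polynomials given by a group-like element -/
def glHom (g : GroupLike k A) : LaurentPolynomial k →ₐc[k] A :=
  BialgHom.ofAlgHom
    (AddMonoidAlgebra.lift k A ℤ (glMon g))
    (AddMonoidAlgebra.algHom_ext (fun n => by
      show Bialgebra.counitAlgHom k A (AddMonoidAlgebra.lift k A ℤ _ (LaurentPolynomial.T n)) = _
      rw [lift_T, glMon_apply]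
      exact (g ^ n).isGroupLikeElem_val.counit_eq_one.trans (LaurentPolynomial.counit_T n).symm) (Subsingleton.elim _ _))
    (AddMonoidAlgebra.algHom_ext (fun n => by
      show Algebra.TensorProduct.map _ _ (Coalgebra.comul (R := k) (LaurentPolynomial.T n : LaurentPolynomial k)) =
        Coalgebra.comul (R := k) (AddMonoidAlgebra.lift k A ℤ _ (LaurentPolynomial.T n))
      rw [LaurentPolynomial.comul_T, Algebra.TensorProduct.map_tmul, lift_T, glMon_apply]
      exact (g ^ n).isGroupLikeElem_val.comul_eq_tmul_self.symm) (Subsingleton.elim _ _))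

theorem glHom_T (g : GroupLike k A) (n : ℤ) : glHom g (LaurentPolynomial.T n) = (g ^ n).val :=
  lift_T (glMon g) n

/-- **Hopf algebras generated by group-like elements** -/
theorem liftsLoc_diag (p : ℕ) [Fact p.Prime] [CharP k p] [Algebra.FiniteType k A] [Coalgebra.IsCocomm k A]
    (hgen : Algebra.adjoin k {a : A | IsGroupLikeElem k a} = ⊤) : LiftsLoc (CGrpSh.pts Kf (P k A)) := by
  suffices H : ∀ [Coalgebra.IsCocomm k A], LiftsLoc (CGrpSh.pts Kf (P k A)) from H
  refine quot_induction (k := k) (A := A)
    (fun Q hQ₁ hQ₂ => ∀ [Coalgebra.IsCocomm k Q], LiftsLoc (CGrpSh.pts Kf (@P k _ Q hQ₁ hQ₂))) ?_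
  intro Q _ _ _ _ π hπ hrec _
  have hQ : Algebra.adjoin k {a : Q | IsGroupLikeElem k a} = ⊤ := by
    rw [eq_top_iff, ← (AlgHom.range_eq_top (π : A →ₐ[k] Q)).2 hπ, ← Algebra.map_top, ← hgen, AlgHom.map_adjoin]
    refine Algebra.adjoin_mono ?_
    rintro _ ⟨a, ha, rfl⟩
    exact ha.map π
  by_cases hg : ∃ g : GroupLike k Q, g ≠ 1
  · obtain ⟨g, hg⟩ := hg
    have hg1 : g.val - 1 ≠ 0 := fun h => hg (GroupLike.val_injective (sub_eq_zero.1 h))
    let ψ := glHom g
    by_cases hinj : Function.Injective ψ
    · refine liftsLoc_of_shortExact (shortExact_seq ψ hinj) (hrec _ (kq ψ) (kq_surjective ψ) fun hbot => hg1 ?_)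
        (liftsLoc_Gm p)
      have : g.val - 1 ∈ RingHom.ker (kq ψ : Q →+* Q ⧸ kerIdeal ψ) := by
        rw [RingHom.mem_ker]
        refine Ideal.Quotient.eq_zero_iff_mem.2 ?_
        rw [show g.val - 1 = ψ (LaurentPolynomial.T 1 - 1) by rw [map_sub, map_one, glHom_T, zpow_one]]
        exact Ideal.mem_map_of_mem _ (by simp [RingHom.mem_ker, LaurentPolynomial.counit_T])
      rwa [hbot] at this
    · have hper : ∃ n : ℕ, 0 < n ∧ g ^ n = 1 := by
        by_contra hno
        refine hinj ?_
        have hzi : Function.Injective fun n : ℤ => g ^ n := injective_zpow_iff_not_isOfFinOrder.2 fun hfin =>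
          hno (isOfFinOrder_iff_pow_eq_one.1 hfin)
        have hli : LinearIndependent k fun n : ℤ => (g ^ n).val :=
          (linearIndep_groupLikeVal (R := k) (A := Q)).comp _ hzi
        refine (injective_iff_map_eq_zero _).2 fun f hf => ?_
        have hsum : ∑ n ∈ f.coeff.support, f.coeff n • (g ^ n).val = 0 := by
          refine Eq.trans ?_ hf
          conv_rhs => rw [← AddMonoidAlgebra.sum_coeff_single f]
          rw [Finsupp.sum, map_sum]
          refine Finset.sum_congr rfl fun n _ => ?_
          show _ = AddMonoidAlgebra.lift k Q ℤ _ (AddMonoidAlgebra.single n (f.coeff n))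
          rw [AddMonoidAlgebra.lift_single]
          rfl
        refine AddMonoidAlgebra.ext (Finsupp.ext fun n => ?_)
        by_cases hn : n ∈ f.coeff.support
        · exact linearIndependent_iff'.1 hli _ _ hsum n hn
        · exact Finsupp.notMem_support_iff.1 hn
      obtain ⟨n, hn, hgn⟩ := hper
      let B : Subalgebra k Q := (ψ : LaurentPolynomial k →ₐ[k] Q).range
      have hB := Groth.L25.UnipExt.isHopfSubalgebra_range ψ
      letI := Groth.L25.HopfSub.hopfAlgebra hB
      let ι₀ : B →ₐc[k] Q := Groth.L25.HopfSub.inclBialg hB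
      have hι₀ : Function.Injective ι₀ := Subtype.val_injective
      haveI : Coalgebra.IsCocomm k B := ⟨LinearMap.ext fun b =>
        TensorProduct.map_injective_of_flat_flat (ι₀ : B →ₗ[k] Q) (ι₀ : B →ₗ[k] Q) hι₀ hι₀ (by
          rw [LinearMap.comp_apply, CoalgHomClass.map_comp_comul_apply]
          show TensorProduct.map (ι₀ : B →ₗ[k] Q) (ι₀ : B →ₗ[k] Q) (TensorProduct.comm k B B (Coalgebra.comul b)) = _
          rw [TensorProduct.map_comm, CoalgHomClass.map_comp_comul_apply, Coalgebra.comm_comul])⟩
      haveI : Module.Finite k B := by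
        suffices hfg : (Subalgebra.toSubmodule B).FG from Module.Finite.iff_fg.2 hfg
        classical
        refine ⟨(Finset.range n).image fun i => (g ^ i).val, ?_⟩
        refine le_antisymm (Submodule.span_le.2 ?_) ?_
        · intro x hx
          obtain ⟨i, -, rfl⟩ := Finset.mem_image.1 hx
          exact ⟨LaurentPolynomial.T (i : ℤ), by simp [ψ, glHom_T]⟩
        · rintro _ ⟨f, rfl⟩
          induction f using AddMonoidAlgebra.induction_linear with
          | zero => exact (map_zero (ψ : LaurentPolynomial k →ₐ[k] Q)).symm ▸ zero_mem _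
          | add a b ha hb => exact (map_add (ψ : LaurentPolynomial k →ₐ[k] Q) a b).symm ▸ add_mem ha hb
          | single m s =>
            show AddMonoidAlgebra.lift k Q ℤ _ (AddMonoidAlgebra.single m s) ∈ _
            rw [AddMonoidAlgebra.lift_single]
            refine Submodule.smul_mem _ s (Submodule.subset_span ?_)
            rw [Finset.coe_image]
            refine ⟨(m % (n : ℤ)).toNat, ?_, ?_⟩
            · rw [Finset.coe_range, Set.mem_Iio]
              have := Int.emod_lt_of_pos m (by exact_mod_cast hn : (0 : ℤ) < n)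
              have := Int.emod_nonneg m (by exact_mod_cast hn.ne' : (n : ℤ) ≠ 0)
              omega
            · show (g ^ (m % (n : ℤ)).toNat).val = (g ^ m).val
              congr 1
              rw [← zpow_natCast, Int.toNat_of_nonneg (Int.emod_nonneg m (by exact_mod_cast hn.ne'))]
              conv_rhs => rw [← Int.emod_add_mul_ediv m n, zpow_add, zpow_mul, zpow_natCast, hgn, one_zpow, mul_one]
      refine liftsLoc_of_shortExact (shortExact_seq ι₀ hι₀) (hrec _ (kq ι₀) (kq_surjective ι₀) fun hbot => hg1 ?_)
        liftsLoc_finite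
      have : g.val - 1 ∈ RingHom.ker (kq ι₀ : Q →+* Q ⧸ kerIdeal ι₀) := by
        rw [RingHom.mem_ker]
        refine Ideal.Quotient.eq_zero_iff_mem.2 ?_
        let b : B := ⟨g.val - 1, LaurentPolynomial.T 1 - 1, by simp [ψ, glHom_T]⟩
        refine Ideal.mem_map_of_mem (ι₀ : B →+* Q) (show b ∈ RingHom.ker (Bialgebra.counitAlgHom k B) from ?_)
        show Bialgebra.counitAlgHom k Q (g.val - 1) = 0
        rw [map_sub, map_one]
        exact sub_eq_zero.2 g.isGroupLikeElem_val.counit_eq_one
      rwa [hbot] at this
  · push Not at hg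
    haveI : Module.Finite k Q := by
      have htop : (⊥ : Subalgebra k Q) = ⊤ := by
        rw [eq_top_iff, ← hQ]
        refine Algebra.adjoin_le fun a ha => ?_
        have := congrArg GroupLike.val (hg ⟨a, ha⟩)
        rw [show a = 1 from this]
        exact one_mem _
      refine Module.Finite.of_surjective (Algebra.linearMap k Q) fun x => ?_
      obtain ⟨r, hr⟩ := Algebra.mem_bot.1 (htop ▸ Algebra.mem_top : x ∈ (⊥ : Subalgebra k Q))
      exact ⟨r, hr⟩
    exact liftsLoc_finite

end Groth.L07.ExtShAff
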