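import Groth.Agent.L07.ExtShAff.LaurentPic
import Groth.Agent.L07.ExtShGa.RootTower
import Groth.Agent.L05.Henselization.AtPrime
import Mathlib.RingTheory.TensorProduct.Free
import Mathlib.RingTheory.Etale.Basic
import Mathlib.RingTheory.Flat.FaithfullyFlat.Algebra

/-!
# Invertible modules on the punctured line are trivial on an fppf cover of the base in characteristic `p`
-/

universe u

open CategoryTheory TensorProduct
open Groth.L07.ExtShGa (Root Stage)
open Groth.L05.Henselization (Col Obj ι ι_map ι_surj ι_eq ε)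
open scoped LaurentPolynomial

set_option autoImplicit false
set_option linter.style.haveILetI false
set_option maxHeartbeats 800000

noncomputable section

namespace Groth.L07.ExtShAff

/-- coefficientwise application of a ring homomorphism -/
abbrev mapLP {B C : Type u} [CommRing B] [CommRing C] (ψ : B →+* C) : B[T;T⁻¹] →+* C[T;T⁻¹] :=
  AddMonoidAlgebra.mapRingHom ℤ ψ

theorem mapLP_mapLP {B C D : Type u} [CommRing B] [CommRing C] [CommRing D] (ψ : B →+* C) (χ : C →+* D)
    (x : B[T;T⁻¹]) : mapLP χ (mapLP ψ x) = mapLP (χ.comp ψ) x :=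
  AddMonoidAlgebra.ext (Finsupp.ext fun n => by
    rw [AddMonoidAlgebra.coeff_mapRingHom, AddMonoidAlgebra.coeff_mapRingHom, AddMonoidAlgebra.coeff_mapRingHom]
    rfl)

theorem exists_lift_laurent {B C : Type u} [CommRing B] [CommRing C] (π : B →+* C) (x : C[T;T⁻¹])
    (h : ∀ m ∈ x.coeff.support, x.coeff m ∈ π.range) : ∃ x' : B[T;T⁻¹], mapLP π x' = x := by
  classical
  choose b hb using h
  refine ⟨AddMonoidAlgebra.ofCoeff (Finsupp.onFinset x.coeff.support
    (fun m => if hm : m ∈ x.coeff.support then b m hm else 0) fun m hm => ?_),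
    AddMonoidAlgebra.ext (Finsupp.ext fun m => ?_)⟩
  · by_contra hc
    exact hm (dif_neg hc)
  · rw [AddMonoidAlgebra.coeff_mapRingHom, AddMonoidAlgebra.coeff_ofCoeff, Finsupp.onFinset_apply]
    split_ifs with hm
    · exact hb m hm
    · rw [map_zero, Finsupp.notMem_support_iff.1 hm]

section Eqs

variable {R : Type u} [CommRing R] {n : ℕ} (E : Fin n → Fin n → R[T;T⁻¹])

/-- the equations of a splitting -/
def Eqs {B : Type u} [CommRing B] (φ : R →+* B) (u v : Fin n → B[T;T⁻¹]) : Prop :=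
  ∑ i, u i * v i = 1 ∧ ∀ i j, v i * u j = mapLP φ (E i j)

/-- the coefficients used by a candidate splitting -/
def coeffs {B : Type u} [CommRing B] (u v : Fin n → B[T;T⁻¹]) : Finset B :=
  haveI := Classical.decEq B
  (Finset.univ.biUnion fun i => (u i).coeff.support.image fun m => (u i).coeff m) ∪
    Finset.univ.biUnion fun i => (v i).coeff.support.image fun m => (v i).coeff m

/-- splittings descend along ring homomorphisms up to finitely many relations -/
theorem exists_descend {B B' : Type u} [CommRing B] [CommRing B'] (φ : R →+* B) (π : B →+* B')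
    {u v : Fin n → B'[T;T⁻¹]} (h : Eqs E (π.comp φ) u v) (hr : ∀ c ∈ coeffs u v, c ∈ π.range) :
    ∃ (F : Finset B) (u' v' : Fin n → B[T;T⁻¹]), (∀ b ∈ F, π b = 0) ∧
      ∀ {C : Type u} [CommRing C] (ψ : B →+* C), (∀ b ∈ F, ψ b = 0) →
        Eqs E (ψ.comp φ) (fun i => mapLP ψ (u' i)) (fun i => mapLP ψ (v' i)) := by
  classical
  choose u' hu' using fun i => exists_lift_laurent π (u i) fun m hm => hr _ (Finset.mem_union_left _
    (Finset.mem_biUnion.2 ⟨i, Finset.mem_univ i, Finset.mem_image.2 ⟨m, hm, rfl⟩⟩))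
  choose v' hv' using fun i => exists_lift_laurent π (v i) fun m hm => hr _ (Finset.mem_union_right _
    (Finset.mem_biUnion.2 ⟨i, Finset.mem_univ i, Finset.mem_image.2 ⟨m, hm, rfl⟩⟩))
  let d₀ : B[T;T⁻¹] := ∑ i, u' i * v' i - 1
  let d : Fin n × Fin n → B[T;T⁻¹] := fun x => v' x.1 * u' x.2 - mapLP φ (E x.1 x.2)
  let cs : B[T;T⁻¹] → Finset B := fun z => z.coeff.support.image fun m => z.coeff m
  have hcs : ∀ {C : Type u} [CommRing C] (ψ : B →+* C) (z : B[T;T⁻¹]),
      (∀ b ∈ cs z, ψ b = 0) → mapLP ψ z = 0 := fun {C} _ ψ z hz =>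
    AddMonoidAlgebra.ext (Finsupp.ext fun m => by
      rw [AddMonoidAlgebra.coeff_mapRingHom, AddMonoidAlgebra.coeff_zero, Finsupp.zero_apply]
      by_cases hm : m ∈ z.coeff.support
      · exact hz _ (Finset.mem_image.2 ⟨m, hm, rfl⟩)
      · rw [Finsupp.notMem_support_iff.1 hm, map_zero])
  have hzero : ∀ z : B[T;T⁻¹], mapLP π z = 0 → ∀ b ∈ cs z, π b = 0 := fun z hz b hb => by
    obtain ⟨m, -, rfl⟩ := Finset.mem_image.1 hb
    have := congrArg (fun w : B'[T;T⁻¹] => w.coeff m) hz
    simpa using this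
  refine ⟨cs d₀ ∪ Finset.univ.biUnion fun x => cs (d x), u', v', fun b hb => ?_, fun {C} _ ψ hψ => ⟨?_, fun i j => ?_⟩⟩
  · rcases Finset.mem_union.1 hb with hb | hb
    · exact hzero d₀ (by simp [d₀, map_sub, map_sum, hu', hv', h.1]) b hb
    · obtain ⟨x, -, hx⟩ := Finset.mem_biUnion.1 hb
      exact hzero (d x) (by simp only [d, map_sub, map_mul, hu', hv', mapLP_mapLP]; rw [h.2, sub_self]) b hx
  · have := hcs ψ d₀ fun b hb => hψ b (Finset.mem_union_left _ hb)
    simpa [d₀, map_sum, sub_eq_zero] using this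
  · have := hcs ψ (d (i, j)) fun b hb =>
      hψ b (Finset.mem_union_right _ (Finset.mem_biUnion.2 ⟨(i, j), Finset.mem_univ _, hb⟩))
    simpa only [d, map_sub, map_mul, mapLP_mapLP, sub_eq_zero] using this

end Eqs

section Convert

variable {S T : Type u} [CommRing S] [CommRing T] [Algebra S T] {N : Type u} [AddCommGroup N] [Module S N]
  {n : ℕ} (s : (Fin n → S) →ₗ[S] N) (r : N →ₗ[S] (Fin n → S)) (hsr : ∀ y, s (r y) = y)

include hsr in
/-- retractions from free modules base change -/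
theorem exists_retract : ∃ (s' : (Fin n → T) →ₗ[T] T ⊗[S] N) (r' : T ⊗[S] N →ₗ[T] (Fin n → T)),
    (∀ z, s' (r' z) = z) ∧ ∀ i j, r' (s' (Pi.single j 1)) i = algebraMap S T (r (s (Pi.single j 1)) i) := by
  classical
  let rr : T ⊗[S] N →ₗ[T] (Fin n → T) :=
    (TensorProduct.piScalarRight S T T (Fin n)).toLinearMap ∘ₗ r.baseChange T
  have hrr : ∀ y i, rr (1 ⊗ₜ y) i = algebraMap S T (r y i) := fun y i => by
    simp [rr, TensorProduct.piScalarRight_apply, Algebra.smul_def]
  let s' : (Fin n → T) →ₗ[T] T ⊗[S] N := Fintype.linearCombination T fun i => 1 ⊗ₜ[S] s (Pi.single i 1)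
  refine ⟨s', rr, fun z => ?_, fun i j => ?_⟩
  · rw [Fintype.linearCombination_apply]
    induction z using TensorProduct.induction_on with
    | zero => simp
    | tmul c y =>
      rw [show (c ⊗ₜ[S] y) = c • ((1 : T) ⊗ₜ y) by rw [TensorProduct.smul_tmul', smul_eq_mul, mul_one]]
      simp only [map_smul, Pi.smul_apply, smul_eq_mul, mul_smul, ← Finset.smul_sum, hrr]
      congr 1
      conv_rhs => rw [← hsr y, pi_eq_sum_univ' (r y), map_sum, tmul_sum]
      refine Finset.sum_congr rfl fun i _ => ?_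
      rw [map_smul, tmul_smul, ← algebraMap_smul T (r y i)]
    | add a b ha hb => simp only [map_add, Pi.add_apply, add_smul, Finset.sum_add_distrib, ha, hb]
  · rw [Fintype.linearCombination_apply_single, one_smul, hrr]

include hsr in
/-- solutions of the equations trivialise the base change -/
theorem nonempty_equiv_of_eqs [Module.Invertible S N] (u v : Fin n → T) (h1 : ∑ i, u i * v i = 1)
    (h2 : ∀ i j, v i * u j = algebraMap S T (r (s (Pi.single j 1)) i)) : Nonempty (T ⊗[S] N ≃ₗ[T] T) := by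
  classical
  obtain ⟨s', r', -, hsr'⟩ := exists_retract (T := T) s r hsr
  let θ : T ⊗[S] N →ₗ[T] T := (Fintype.linearCombination T u) ∘ₗ r'
  have hθ : θ (∑ i, v i • s' (Pi.single i 1)) = 1 := by
    simp only [θ, map_sum, map_smul, LinearMap.comp_apply, Fintype.linearCombination_apply, smul_eq_mul, hsr', ← h2,
      Finset.mul_sum]
    calc ∑ i, ∑ k, v i * (v k * u i * u k) = ∑ i, (u i * v i) * ∑ k, u k * v k :=
          Finset.sum_congr rfl fun i _ => by
            rw [Finset.mul_sum]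
            exact Finset.sum_congr rfl fun k _ => by ring
      _ = 1 := by rw [h1]; simpa using h1
  refine ⟨LinearEquiv.ofBijective θ (Module.Invertible.bijective_of_surjective fun t => ⟨t • (∑ i, v i • s' (Pi.single i 1)), ?_⟩)⟩
  rw [map_smul, hθ, smul_eq_mul, mul_one]

end Convert

section Colimit

variable {X Y H T₀ : Type u} [CommRing X] [CommRing Y] [CommRing H] [CommRing T₀] [Algebra X Y] [Algebra X H]
  [Algebra X T₀] (j : Y →ₐ[X] H) {κ : Type*} (b : Module.Basis κ X T₀)

theorem repr_map (x : Y ⊗[X] T₀) (k : κ) :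
    (Algebra.TensorProduct.basis H b).repr (Algebra.TensorProduct.map j (AlgHom.id X T₀) x) k =
      j ((Algebra.TensorProduct.basis Y b).repr x k) := by
  induction x using TensorProduct.induction_on with
  | zero => simp
  | tmul a m => simp
  | add a c ha hc => simp only [map_add, Finsupp.add_apply, ha, hc]

theorem mem_range_map (x : H ⊗[X] T₀) (h : ∀ k, (Algebra.TensorProduct.basis H b).repr x k ∈ j.range) :
    x ∈ (Algebra.TensorProduct.map j (AlgHom.id X T₀)).range := by
  rw [← (Algebra.TensorProduct.basis H b).linearCombination_repr x, Finsupp.linearCombination_apply]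
  refine Subalgebra.sum_mem _ fun k _ => ?_
  obtain ⟨y, hy⟩ := h k
  refine ⟨y ⊗ₜ b k, ?_⟩
  show j y ⊗ₜ[X] b k = (Algebra.TensorProduct.basis H b).repr x k • Algebra.TensorProduct.basis H b k
  rw [← hy]
  exact (Algebra.TensorProduct.basis_repr_symm_apply' b (j y) k).symm

end Colimit

variable (p : ℕ) [hp : Fact p.Prime] {R : Type u} [CommRing R] [CharP R p]

/-- the ring of a neighbourhood, opaque to instance search -/
def Nb {K : Type u} [CommRing K] [Algebra R K] (X : Obj R K) : Type u := X.R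

instance {K : Type u} [CommRing K] [Algebra R K] (X : Obj R K) : CommRing (Nb X) :=
  inferInstanceAs (CommRing X.R)
instance {K : Type u} [CommRing K] [Algebra R K] (X : Obj R K) : Algebra R (Nb X) :=
  inferInstanceAs (Algebra R X.R)
instance {K : Type u} [CommRing K] [Algebra R K] (X : Obj R K) : Algebra.Etale R (Nb X) :=
  inferInstanceAs (Algebra.Etale R X.R)

/-- the map to the colimit -/
def ιN {K : Type u} [CommRing K] [Algebra R K] (X : Obj R K) : Nb X →ₐ[R] Col R K := ι X

/-- the transition maps -/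
def hN {K : Type u} [CommRing K] [Algebra R K] {X Y : Obj R K} (f : X ⟶ Y) : Nb X →ₐ[R] Nb Y := f.1

/-- the point of a neighbourhood -/
def φN {K : Type u} [CommRing K] [Algebra R K] (X : Obj R K) : Nb X →ₐ[R] K := X.φ

theorem ιN_map {K : Type u} [CommRing K] [Algebra R K] {X Y : Obj R K} (f : X ⟶ Y) (x : Nb X) :
    ιN Y (hN f x) = ιN X x := ι_map f x

theorem ιN_surj {K : Type u} [CommRing K] [Algebra R K] (c : Col R K) : ∃ (X : Obj R K) (x : Nb X), ιN X x = c :=
  ι_surj c

theorem ιN_eq {K : Type u} [CommRing K] [Algebra R K] {X : Obj R K} {x y : Nb X} (h : ιN X x = ιN X y) :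
    ∃ (Z : Obj R K) (f : X ⟶ Z), hN f x = hN f y := ι_eq h

theorem exists_common_kill {K : Type u} [CommRing K] [Algebra R K] {X : Obj R K} (F : Finset (Nb X))
    (hF : ∀ c ∈ F, ιN X c = 0) : ∃ (Z : Obj R K) (f : X ⟶ Z), ∀ c ∈ F, hN f c = 0 := by
  classical
  induction F using Finset.induction with
  | empty => exact ⟨X, 𝟙 X, by simp⟩
  | insert a s ha ih =>
    obtain ⟨Z, f, hf⟩ := ih fun c hc => hF c (Finset.mem_insert_of_mem hc)
    have hz : ιN Z (hN f a) = ιN Z 0 := by rw [ιN_map, hF a (Finset.mem_insert_self a s), map_zero]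
    obtain ⟨W, g, hg⟩ := ιN_eq hz
    refine ⟨W, f ≫ g, fun c hc => ?_⟩
    show hN g (hN f c) = 0
    rcases Finset.mem_insert.1 hc with rfl | hc
    · rw [hg, map_zero]
    · rw [hf c hc, map_zero]

theorem exists_common_lift {K : Type u} [CommRing K] [Algebra R K] (X : Obj R K) (F : Finset (Col R K)) :
    ∃ (Z : Obj R K) (_ : X ⟶ Z), ∀ c ∈ F, c ∈ (ιN Z).range := by
  classical
  induction F using Finset.induction with
  | empty => exact ⟨X, 𝟙 X, by simp⟩
  | insert a s ha ih =>
    obtain ⟨Z, f, hf⟩ := ih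
    obtain ⟨W, x, hx⟩ := ιN_surj a
    obtain ⟨V, g, g', -⟩ := IsFilteredOrEmpty.cocone_objs Z W
    refine ⟨V, f ≫ g, fun c hc => ?_⟩
    rcases Finset.mem_insert.1 hc with rfl | hc
    · exact ⟨hN g' x, (ιN_map g' x).trans hx⟩
    · obtain ⟨z, hz⟩ := hf c hc
      exact ⟨hN g z, (ιN_map g z).trans hz⟩

include p hp in
/-- near every point of the base an invertible module on the punctured line is trivial on a flat finitely
presented algebra -/
theorem exists_split_nbhd (L : Type u) [AddCommGroup L] [Module R[T;T⁻¹] L] [Module.Invertible R[T;T⁻¹] L]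
    (q : PrimeSpectrum R) :
    ∃ (S : Type u) (_ : CommRing S) (_ : Algebra R S), Module.Flat R S ∧ Algebra.FinitePresentation R S ∧
      q ∈ Set.range (PrimeSpectrum.comap (algebraMap R S)) ∧
      (letI : Algebra R[T;T⁻¹] S[T;T⁻¹] := (mapLP (algebraMap R S)).toAlgebra
       Nonempty (S[T;T⁻¹] ⊗[R[T;T⁻¹]] L ≃ₗ[S[T;T⁻¹]] S[T;T⁻¹])) := by
  classical
  obtain ⟨n, s, hs⟩ := Module.Finite.exists_fin' R[T;T⁻¹] L
  obtain ⟨r, hr⟩ := Module.projective_lifting_property s LinearMap.id hs
  have hsr : ∀ y, s (r y) = y := LinearMap.congr_fun hr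
  let E : Fin n → Fin n → R[T;T⁻¹] := fun i j => r (s (Pi.single j 1)) i
  let K := q.asIdeal.ResidueField
  let H := Col R K
  haveI hl : IsLocalRing H := Groth.L05.Henselization.isLocalRing_col R K
  haveI : HenselianLocalRing H := by
    haveI := RingHom.ker_isMaximal_of_surjective _ (Groth.L05.Henselization.ε_surjective_prime q.asIdeal)
    haveI : HenselianRing H (IsLocalRing.maximalIdeal H) := by
      rw [show IsLocalRing.maximalIdeal H = RingHom.ker (ε R K) from (IsLocalRing.eq_maximalIdeal inferInstance).symm]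
      exact Groth.L05.Henselization.henselianRing_ker_ε (Groth.L05.Henselization.ε_surjective_prime q.asIdeal)
    exact Groth.L05.henselianLocalRing_of_henselianRing
  haveI : CharP H p := (CharP.charP_iff_prime_eq_zero hp.out).2 (by
    rw [← map_natCast (algebraMap R H), CharP.cast_eq_zero, map_zero])
  -- split over the root closure of the henselization
  obtain ⟨u, v, hu1, hu2⟩ : ∃ u v : Fin n → (Root H p)[T;T⁻¹],
      Eqs E ((algebraMap H (Root H p)).comp (algebraMap R H)) u v := by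
    letI : Algebra R[T;T⁻¹] H[T;T⁻¹] := @RingHom.toAlgebra R[T;T⁻¹] H[T;T⁻¹] _ _ (mapLP (algebraMap R H))
    obtain ⟨s', r', hsr', hE⟩ := exists_retract (T := H[T;T⁻¹]) s r hsr
    obtain ⟨u, v, h1, h2⟩ := exists_split_root p H (H[T;T⁻¹] ⊗[R[T;T⁻¹]] L) s' r' hsr'
    refine ⟨u, v, h1, fun i j => ?_⟩
    rw [h2, hE]
    exact mapLP_mapLP _ _ _
  -- split over a stage
  obtain ⟨t, N, T, u₁, v₁, h₁⟩ : ∃ (t : Finset H) (N : ℕ) (T : Stage H t (p ^ N)) (u v : Fin n → T.A[T;T⁻¹]),
      Eqs E ((algebraMap H T.A).comp (algebraMap R H)) u v := by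
    obtain ⟨t, N, hb⟩ := Groth.L07.ExtShGa.exists_bound (p := p) (coeffs u v)
    obtain ⟨T⟩ := Groth.L07.ExtShGa.exists_stage t (q := p ^ N) (pow_pos hp.out.pos N)
    obtain ⟨φ, hφ⟩ := Groth.L07.ExtShGa.exists_toRoot T
    obtain ⟨F, u', v', hF, hψ⟩ := exists_descend E ((algebraMap H T.A).comp (algebraMap R H)) (φ : T.A →+* Root H p)
      (u := u) (v := v) (by rw [← RingHom.comp_assoc, AlgHom.comp_algebraMap]; exact ⟨hu1, hu2⟩)
      (hb T φ hφ)
    obtain ⟨t', N', T', φ', ψ, -, -, hkill⟩ := Groth.L07.ExtShGa.exists_kill T φ hφ hp.out.pos F hF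
    refine ⟨t', N', T', fun i => mapLP (ψ : T.A →+* T'.A) (u' i), fun i => mapLP (ψ : T.A →+* T'.A) (v' i), ?_⟩
    have := hψ (ψ : T.A →+* T'.A) hkill
    rwa [← RingHom.comp_assoc, AlgHom.comp_algebraMap] at this
  -- descend the henselization to a neighbourhood
  obtain ⟨X₀⟩ := (IsFiltered.nonempty (C := Obj R K))
  obtain ⟨X, -, hX⟩ := exists_common_lift X₀ t
  choose a ha using fun c : t => hX c.1 c.2
  let t₀ : Finset (Nb X) := Finset.univ.image a
  obtain ⟨T₀⟩ := Groth.L07.ExtShGa.exists_stage t₀ (q := p ^ N) (pow_pos hp.out.pos N)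
  letI : Algebra (Nb X) H := (ιN X).toRingHom.toAlgebra
  let B := H ⊗[(Nb X)] T₀.A
  obtain ⟨χ, -⟩ := T.exists_hom (B := B) (fun c => if hc : c ∈ t then 1 ⊗ₜ T₀.y (a ⟨c, hc⟩) else 0) fun c hc => by
    rw [dif_pos hc, Algebra.TensorProduct.tmul_pow, one_pow,
      T₀.pow_y _ (Finset.mem_image.2 ⟨⟨c, hc⟩, Finset.mem_univ _, rfl⟩), Algebra.algebraMap_eq_smul_one,
      ← TensorProduct.smul_tmul, Algebra.TensorProduct.algebraMap_apply, Algebra.smul_def, mul_one]
    exact congrArg (· ⊗ₜ[(Nb X)] (1 : T₀.A)) (ha ⟨c, hc⟩)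
  let e := Module.Free.chooseBasis (Nb X) T₀.A
  have h₂ : Eqs E ((algebraMap H B).comp (algebraMap R H)) (fun i => mapLP (χ : T.A →+* B) (u₁ i))
      (fun i => mapLP (χ : T.A →+* B) (v₁ i)) := by
    refine ⟨?_, fun i j => ?_⟩
    · rw [← map_one (mapLP (χ : T.A →+* B)), ← h₁.1, map_sum]
      exact Finset.sum_congr rfl fun i _ => (map_mul _ _ _).symm
    · rw [← map_mul, h₁.2, mapLP_mapLP, ← RingHom.comp_assoc, AlgHom.comp_algebraMap]
  let C : Finset H := (coeffs (fun i => mapLP (χ : T.A →+* B) (u₁ i)) fun i => mapLP (χ : T.A →+* B) (v₁ i)).biUnion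
    fun b => Finset.univ.image fun k => (Algebra.TensorProduct.basis H e).repr b k
  obtain ⟨Y, f, hY⟩ := exists_common_lift X C
  letI : Algebra (Nb X) (Nb Y) := (hN f).toRingHom.toAlgebra
  haveI : IsScalarTower R (Nb X) (Nb Y) :=
    IsScalarTower.of_algebraMap_eq fun c => ((hN f).commutes c).symm
  let jY : (Nb Y) →ₐ[(Nb X)] H := { toRingHom := (ιN Y).toRingHom, commutes' := fun c => ιN_map f c }
  let πY := Algebra.TensorProduct.map jY (AlgHom.id (Nb X) T₀.A)
  obtain ⟨F, u', v', hF, hψ⟩ := exists_descend E (algebraMap R (Nb Y ⊗[(Nb X)] T₀.A)) πY.toRingHom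
    (u := fun i => mapLP (χ : T.A →+* B) (u₁ i)) (v := fun i => mapLP (χ : T.A →+* B) (v₁ i)) (by
      refine (iff_of_eq ?_).1 h₂
      congr 1
      refine RingHom.ext fun c => ?_
      show algebraMap H B (algebraMap R H c) = πY (algebraMap R (Nb Y) c ⊗ₜ 1)
      rw [Algebra.TensorProduct.map_tmul, map_one]
      exact congrArg (· ⊗ₜ[(Nb X)] (1 : T₀.A)) ((ιN Y).commutes c).symm)
    (fun b hb => by
      obtain ⟨y, hy⟩ := mem_range_map jY e b fun k =>
        hY _ (Finset.mem_biUnion.2 ⟨b, hb, Finset.mem_image.2 ⟨k, Finset.mem_univ k, rfl⟩⟩)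
      exact ⟨y, hy⟩)
  obtain ⟨Z, g, hZ⟩ := exists_common_kill (F.biUnion fun b => Finset.univ.image fun k =>
    (Algebra.TensorProduct.basis (Nb Y) e).repr b k) fun c hc => by
      obtain ⟨b, hb, hc⟩ := Finset.mem_biUnion.1 hc
      obtain ⟨k, -, rfl⟩ := Finset.mem_image.1 hc
      show jY _ = 0
      rw [← repr_map jY e]
      rw [show (Algebra.TensorProduct.map jY (AlgHom.id (Nb X) T₀.A)) b = 0 from hF b hb, map_zero, Finsupp.zero_apply]
  letI : Algebra (Nb X) (Nb Z) := ((hN g).comp (hN f)).toRingHom.toAlgebra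
  haveI : IsScalarTower R (Nb X) (Nb Z) :=
    IsScalarTower.of_algebraMap_eq fun c => (((hN g).comp (hN f)).commutes c).symm
  let jZ : (Nb Y) →ₐ[(Nb X)] (Nb Z) := { toRingHom := (hN g).toRingHom, commutes' := fun c => rfl }
  let S := (Nb Z) ⊗[(Nb X)] T₀.A
  let πZ := Algebra.TensorProduct.map jZ (AlgHom.id (Nb X) T₀.A)
  have h₃ := hψ πZ.toRingHom fun b hb => by
    show πZ b = 0
    refine (Algebra.TensorProduct.basis (Nb Z) e).repr.injective (Finsupp.ext fun k => ?_)
    rw [repr_map jZ e, map_zero, Finsupp.zero_apply]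
    exact hZ _ (Finset.mem_biUnion.2 ⟨b, hb, Finset.mem_image.2 ⟨k, Finset.mem_univ k, rfl⟩⟩)
  haveI : Module.Free (Nb Z) S := Module.Free.of_basis (Algebra.TensorProduct.basis (Nb Z) e)
  haveI : Module.Finite (Nb Z) S := Module.Finite.of_basis (Algebra.TensorProduct.basis (Nb Z) e)
  haveI : (RingHom.ker (φN Z)).IsPrime := RingHom.ker_isPrime _
  haveI : Nontrivial (Nb Z) := RingHom.domain_nontrivial (φN Z : (Nb Z) →+* K)
  haveI : Nontrivial T₀.A := T₀.nontrivial (RingHom.domain_nontrivial ((hN f).toRingHom.comp (RingHom.id (Nb X)) |> ((hN g).toRingHom.comp ·)))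
  haveI : Nontrivial S := by
    haveI : Nonempty (Module.Free.ChooseBasisIndex (Nb X) T₀.A) := e.index_nonempty
    exact (Algebra.TensorProduct.basis (Nb Z) e).repr.toEquiv.nontrivial
  haveI : Module.Flat R (Nb Z) := inferInstance
  haveI : Module.FinitePresentation (Nb Z) S := Module.finitePresentation_of_projective (Nb Z) S
  haveI : Algebra.FinitePresentation (Nb Z) S := Algebra.FinitePresentation.of_finitePresentation (Nb Z) S
  refine ⟨S, inferInstance, inferInstance, Module.Flat.trans R (Nb Z) S, Algebra.FinitePresentation.trans R (Nb Z) S, ?_, ?_⟩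
  · obtain ⟨P, hP⟩ := PrimeSpectrum.comap_surjective_of_faithfullyFlat (A := Nb Z) (B := S) ⟨RingHom.ker (φN Z), inferInstance⟩
    refine ⟨P, ?_⟩
    rw [IsScalarTower.algebraMap_eq R (Nb Z) S, PrimeSpectrum.comap_comp, Function.comp_apply, hP]
    exact PrimeSpectrum.ext (Groth.L05.Henselization.comap_ker_point q.asIdeal (φN Z)).symm
  · letI : Algebra R[T;T⁻¹] S[T;T⁻¹] := (mapLP (algebraMap R S)).toAlgebra
    have hcomp : πZ.toRingHom.comp (algebraMap R (Nb Y ⊗[(Nb X)] T₀.A)) = algebraMap R S := RingHom.ext fun c => by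
      show πZ (algebraMap R (Nb Y) c ⊗ₜ 1) = algebraMap R (Nb Z) c ⊗ₜ 1
      rw [Algebra.TensorProduct.map_tmul, map_one]
      exact congrArg (· ⊗ₜ[(Nb X)] (1 : T₀.A)) ((hN g).commutes c)
    rw [hcomp] at h₃
    exact nonempty_equiv_of_eqs s r hsr _ _ h₃.1 h₃.2

end Groth.L07.ExtShAff
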