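import Groth.Agent.L07.ExtShAff.HopfObl
import Groth.Agent.L07.ExtShAff.LaurentDescend
import Groth.Agent.S13793
import Mathlib.RingTheory.HopfAlgebra.MonoidAlgebra
import Mathlib.RingTheory.TensorProduct.MonoidAlgebra

/-!
# The lifting obligations for the multiplicative group in characteristic `p`
-/

universe u

open TensorProduct AddMonoidAlgebra WithConv
open scoped LaurentPolynomial
open Algebra.TensorProduct (includeLeft includeRight)

set_option autoImplicit false
set_option backward.isDefEq.respectTransparency false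
set_option linter.style.haveILetI false
set_option maxHeartbeats 1000000

noncomputable section

namespace Groth.L07.ExtShAff

variable {k : Type u} [Field k] {R A : Type u} [CommRing R] [Algebra k R] [CommRing A] [Algebra k A]

local notation "Hm" => LaurentPolynomial k

/-- the monomials, as a character -/
def mon (x : Hm →ₐ[k] A) : Multiplicative ℤ →* A where
  toFun n := x (LaurentPolynomial.T n.toAdd)
  map_one' := by rw [toAdd_one, LaurentPolynomial.T_zero, map_one]
  map_mul' a b := by rw [toAdd_mul, LaurentPolynomial.T_add, map_mul]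

theorem mulPt_T (x y : Hm →ₐ[k] A) (n : ℤ) :
    mulPt x y (LaurentPolynomial.T n) = x (LaurentPolynomial.T n) * y (LaurentPolynomial.T n) := by
  show (Algebra.TensorProduct.lmul' k) ((Algebra.TensorProduct.map x y)
    (CoalgebraStruct.comul (R := k) (LaurentPolynomial.T n : Hm))) = _
  rw [LaurentPolynomial.comul_T]
  simp

variable (k R) in
/-- the Laurent polynomials in two variables as a tensor product -/
def α2 : R ⊗[k] (Hm ⊗[k] Hm) →ₐ[k] AddMonoidAlgebra R (Fin 2 → ℤ) :=
  Algebra.TensorProduct.lift (IsScalarTower.toAlgHom k R _)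
    (Algebra.TensorProduct.lift
      (AddMonoidAlgebra.lift k (AddMonoidAlgebra R (Fin 2 → ℤ)) ℤ
        ((AddMonoidAlgebra.of R (Fin 2 → ℤ)).comp (AddMonoidHom.toMultiplicative
          (AddMonoidHom.single (fun _ : Fin 2 => ℤ) 0))))
      (AddMonoidAlgebra.lift k (AddMonoidAlgebra R (Fin 2 → ℤ)) ℤ
        ((AddMonoidAlgebra.of R (Fin 2 → ℤ)).comp (AddMonoidHom.toMultiplicative
          (AddMonoidHom.single (fun _ : Fin 2 => ℤ) 1))))
      fun _ _ => .all _ _) fun _ _ => .all _ _

variable (k R) in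
/-- Laurent polynomials in one variable as a tensor product -/
def γ1 : AddMonoidAlgebra R (Fin 1 → ℤ) →+* R ⊗[k] Hm :=
  AddMonoidAlgebra.liftNCRingHom (Algebra.TensorProduct.includeLeftRingHom)
    ((((includeRight : Hm →ₐ[k] R ⊗[k] Hm) : Hm →* R ⊗[k] Hm).comp (AddMonoidAlgebra.of k ℤ)).comp
      (AddMonoidHom.toMultiplicative (Pi.evalAddMonoidHom (fun _ : Fin 1 => ℤ) 0))) fun _ _ => .all _ _

/-- evaluation of Laurent polynomials in two variables -/
def E2 (φ : R →ₐ[k] A) (x y : Hm →ₐ[k] A) : AddMonoidAlgebra R (Fin 2 → ℤ) →+* A :=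
  AddMonoidAlgebra.liftNCRingHom (φ : R →+* A)
    ((mon x).comp (AddMonoidHom.toMultiplicative (Pi.evalAddMonoidHom (fun _ : Fin 2 => ℤ) 0)) *
      (mon y).comp (AddMonoidHom.toMultiplicative (Pi.evalAddMonoidHom (fun _ : Fin 2 => ℤ) 1)))
    fun _ _ => .all _ _

theorem E2_single (φ : R →ₐ[k] A) (x y : Hm →ₐ[k] A) (g : Fin 2 → ℤ) (r : R) :
    E2 φ x y (single g r) = φ r * (x (LaurentPolynomial.T (g 0)) * y (LaurentPolynomial.T (g 1))) := by
  rw [E2, AddMonoidAlgebra.liftNCRingHom_single]
  rfl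

theorem E2_α2 (φ : R →ₐ[k] A) (x y : Hm →ₐ[k] A) (z : R ⊗[k] (Hm ⊗[k] Hm)) :
    E2 φ x y (α2 k R z) = ev2 φ x y z := by
  induction z using TensorProduct.induction_on with
  | zero => simp
  | add a b ha hb => simp only [map_add, ha, hb]
  | tmul r w =>
    induction w using TensorProduct.induction_on with
    | zero => simp
    | add a b ha hb => simp only [TensorProduct.tmul_add, map_add, ha, hb]
    | tmul a b =>
      induction a using AddMonoidAlgebra.induction_linear with
      | zero => simp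
      | add c d hc hd => simp only [TensorProduct.add_tmul, TensorProduct.tmul_add, map_add, hc, hd]
      | single m s =>
        induction b using AddMonoidAlgebra.induction_linear with
        | zero => simp
        | add c d hc hd => simp only [TensorProduct.tmul_add, map_add, hc, hd]
        | single n t =>
          have hm : ∀ (m : ℤ) (s : k) (z : Hm →ₐ[k] A), z (single m s) = algebraMap k A s * z (LaurentPolynomial.T m) :=
            fun m s z => by
              rw [← AlgHom.commutes z, ← map_mul]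
              congr 1
              rw [LaurentPolynomial.single_eq_C_mul_T]
              rfl
          simp only [α2, ev2, Algebra.TensorProduct.lift_tmul, AddMonoidAlgebra.lift_single, map_mul,
            MonoidHom.coe_comp, Function.comp_apply, IsScalarTower.coe_toAlgHom']
          rw [hm m s x, hm n t y]
          simp [E2_single, Algebra.smul_def, LaurentPolynomial.T_zero, IsScalarTower.algebraMap_apply k R (AddMonoidAlgebra R (Fin 2 → ℤ))]

theorem ev1_γ1 (φ : R →ₐ[k] A) (x : Hm →ₐ[k] A) (g : Fin 1 → ℤ) (r : R) :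
    ev1 φ x (γ1 k R (single g r)) = φ r * x (LaurentPolynomial.T (g 0)) := by
  rw [γ1, AddMonoidAlgebra.liftNCRingHom_single]
  show ev1 φ x (r ⊗ₜ (1 : Hm) * ((1 : R) ⊗ₜ LaurentPolynomial.T (g 0))) = _
  simp

theorem E2_mapDomain {M : Type} [AddCommMonoid M] (φ : R →ₐ[k] A) (x y : Hm →ₐ[k] A)
    (f : (Fin 1 → ℤ) →+ (Fin 2 → ℤ)) (z : Hm →ₐ[k] A)
    (h : ∀ g, x (LaurentPolynomial.T (f g 0)) * y (LaurentPolynomial.T (f g 1)) = z (LaurentPolynomial.T (g 0)))
    (η : AddMonoidAlgebra R (Fin 1 → ℤ)) :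
    E2 φ x y (AddMonoidAlgebra.mapDomainRingHom R f η) = ev1 φ z (γ1 k R η) := by
  induction η using AddMonoidAlgebra.induction_linear with
  | zero => simp
  | add c d hc hd => simp only [map_add, hc, hd]
  | single g r =>
    rw [AddMonoidAlgebra.mapDomainRingHom_apply, AddMonoidAlgebra.mapDomain_single, E2_single, ev1_γ1, h]

variable (k) in
theorem ringCocycle_Gm : RingCocycle k (LaurentPolynomial k) := by
  intro R _ _ u _ _ hcoc
  let u2 : (AddMonoidAlgebra R (Fin 2 → ℤ))ˣ := Units.map (α2 k R).toRingHom.toMonoidHom u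
  let pt : Fin 3 → (LaurentPolynomial k →ₐ[k] AddMonoidAlgebra R (Fin 3 → ℤ)) := fun i =>
    AddMonoidAlgebra.lift k (AddMonoidAlgebra R (Fin 3 → ℤ)) ℤ
      ((AddMonoidAlgebra.of R (Fin 3 → ℤ)).comp (AddMonoidHom.toMultiplicative
        (AddMonoidHom.single (fun _ : Fin 3 => ℤ) i)))
  have hpt : ∀ i n, pt i (LaurentPolynomial.T n) = single (Pi.single i n) (1 : R) := fun i n => by
    show pt i (single n (1 : k)) = _
    simp [pt, -LaurentPolynomial.single_eq_C_mul_T]
  let φ₀ : R →ₐ[k] AddMonoidAlgebra R (Fin 3 → ℤ) := IsScalarTower.toAlgHom k R _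
  have hE : ∀ (x y : LaurentPolynomial k →ₐ[k] AddMonoidAlgebra R (Fin 3 → ℤ)) (f : (Fin 2 → ℤ) →+ (Fin 3 → ℤ)),
      (∀ g, x (LaurentPolynomial.T (g 0)) * y (LaurentPolynomial.T (g 1)) = single (f g) (1 : R)) →
      ev2 φ₀ x y u = AddMonoidAlgebra.mapDomainRingHom R f u2 := fun x y f hf => by
    rw [← E2_α2 (φ := φ₀)]
    refine RingHom.congr_fun (AddMonoidAlgebra.ringHom_ext (fun r => ?_) fun g => ?_) (α2 k R u) <;>
      rw [E2_single, AddMonoidAlgebra.mapDomainRingHom_apply, AddMonoidAlgebra.mapDomain_single, hf] <;>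
      simp [φ₀, AddMonoidAlgebra.single_mul_single]
  have hc : Groth.Agent.S13793.IsCocycle u2 := by
    have e := hcoc _ φ₀ (pt 0) (pt 1) (pt 2)
    rw [hE (pt 0) (pt 1) (Groth.Agent.S13793.F 3) (fun g => by
        rw [hpt, hpt, AddMonoidAlgebra.single_mul_single, (Groth.Agent.S13793.F_apply g).2.2.2, one_mul]
        congr 1; funext i; fin_cases i <;> simp),
      hE (mulPt (pt 0) (pt 1)) (pt 2) (Groth.Agent.S13793.F 1) (fun g => by
        rw [mulPt_T, hpt, hpt, hpt, AddMonoidAlgebra.single_mul_single, AddMonoidAlgebra.single_mul_single,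
          (Groth.Agent.S13793.F_apply g).2.1, one_mul, one_mul]
        congr 1; funext i; fin_cases i <;> simp),
      hE (pt 1) (pt 2) (Groth.Agent.S13793.F 0) (fun g => by
        rw [hpt, hpt, AddMonoidAlgebra.single_mul_single, (Groth.Agent.S13793.F_apply g).1, one_mul]
        congr 1; funext i; fin_cases i <;> simp),
      hE (pt 0) (mulPt (pt 1) (pt 2)) (Groth.Agent.S13793.F 2) (fun g => by
        rw [mulPt_T, hpt, hpt, hpt, AddMonoidAlgebra.single_mul_single, AddMonoidAlgebra.single_mul_single,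
          (Groth.Agent.S13793.F_apply g).2.2.1, one_mul, one_mul]
        congr 1; funext i; fin_cases i <;> simp)] at e
    exact e.symm.trans (mul_comm _ _)
  obtain ⟨η, hη⟩ := Groth.Agent.S13793.main u2 hc
  refine ⟨R, inferInstance, inferInstance, inferInstance, inferInstance, inferInstance, inferInstance,
    fun q => ⟨q, by simp⟩, Units.map (γ1 k R).toMonoidHom η⁻¹, fun A _ _ φ x y => ?_⟩
  rw [show φ.comp (IsScalarTower.toAlgHom k R R) = φ from AlgHom.ext fun r => rfl, ← E2_α2]
  have hG : ∀ (j : Fin 3) (z : LaurentPolynomial k →ₐ[k] A),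
      (∀ g, x (LaurentPolynomial.T (Groth.Agent.S13793.G j g 0)) * y (LaurentPolynomial.T (Groth.Agent.S13793.G j g 1)) =
        z (LaurentPolynomial.T (g 0))) →
      Units.map (E2 φ x y).toMonoidHom (Units.map (AddMonoidAlgebra.mapDomainRingHom R (Groth.Agent.S13793.G j)).toMonoidHom η) =
        Units.map (ev1 φ z).toRingHom.toMonoidHom (Units.map (γ1 k R).toMonoidHom η) := fun j z hz =>
    Units.ext (E2_mapDomain (M := Fin 1 → ℤ) φ x y _ z hz η)
  have e := congrArg (Units.map (E2 φ x y).toMonoidHom) hη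
  rw [Groth.Agent.S13793.dU, map_mul, map_mul, map_inv,
    hG 0 y (fun g => by rw [(Groth.Agent.S13793.G_apply g).1]; simp),
    hG 1 (mulPt x y) (fun g => by rw [mulPt_T, (Groth.Agent.S13793.G_apply g).2.1]; simp),
    hG 2 x (fun g => by rw [(Groth.Agent.S13793.G_apply g).2.2]; simp)] at e
  have key : ∀ (h a b c : Aˣ), h = b * c⁻¹ * a → h * (a⁻¹ * b⁻¹) = c⁻¹ := fun h a b c hh => by
    subst hh
    rw [mul_comm b, mul_assoc c⁻¹ b a, mul_comm b a, mul_assoc, ← mul_inv, mul_inv_cancel, mul_one]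
  have e' := key _ _ _ _ e
  rw [← map_inv, ← map_inv, ← map_inv] at e'
  have e'' := congrArg Units.val e'
  simpa only [← map_inv, Units.val_mul, Units.coe_map, RingHom.toMonoidHom_eq_coe, MonoidHom.coe_coe,
    AlgHom.toRingHom_eq_coe, RingHom.coe_coe, u2] using e''

variable (k) in
theorem ringPic_Gm (p : ℕ) [Fact p.Prime] [CharP k p] : RingPic k (LaurentPolynomial k) := by
  intro R _ _ N _ _ _ q
  haveI : Nontrivial R := q.nontrivial
  haveI : CharP R p := charP_of_injective_algebraMap (algebraMap k R).injective p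
  let σ : R ⊗[k] LaurentPolynomial k ≃ₐ[R] R[T;T⁻¹] := AddMonoidAlgebra.scalarTensorEquiv k R
  letI : Algebra (R ⊗[k] LaurentPolynomial k) R[T;T⁻¹] := (σ : R ⊗[k] LaurentPolynomial k →+* R[T;T⁻¹]).toAlgebra
  obtain ⟨S, _, _, hflat, hfp, hq, hsplit⟩ := exists_split_nbhd p (R[T;T⁻¹] ⊗[R ⊗[k] LaurentPolynomial k] N) q
  letI : Algebra k S := ((algebraMap R S).comp (algebraMap k R)).toAlgebra
  haveI : IsScalarTower k R S := IsScalarTower.of_algebraMap_eq fun _ => rfl
  refine ⟨S, inferInstance, inferInstance, inferInstance, inferInstance, hflat, hfp, hq, ?_⟩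
  letI : Algebra (R ⊗[k] LaurentPolynomial k) (S ⊗[k] LaurentPolynomial k) :=
    (Algebra.TensorProduct.map (IsScalarTower.toAlgHom k R S) (AlgHom.id k _)).toRingHom.toAlgebra
  letI : Algebra R[T;T⁻¹] S[T;T⁻¹] := (mapLP (algebraMap R S)).toAlgebra
  letI : Algebra (R ⊗[k] LaurentPolynomial k) S[T;T⁻¹] :=
    ((mapLP (algebraMap R S)).comp (σ : R ⊗[k] LaurentPolynomial k →+* R[T;T⁻¹])).toAlgebra
  haveI : IsScalarTower (R ⊗[k] LaurentPolynomial k) R[T;T⁻¹] S[T;T⁻¹] :=
    IsScalarTower.of_algebraMap_eq fun _ => rfl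
  let σS : S ⊗[k] LaurentPolynomial k ≃ₐ[S] S[T;T⁻¹] := AddMonoidAlgebra.scalarTensorEquiv k S
  have hcomm : ∀ z : R ⊗[k] LaurentPolynomial k,
      σS (algebraMap _ (S ⊗[k] LaurentPolynomial k) z) = algebraMap _ S[T;T⁻¹] z := fun z => by
    induction z using TensorProduct.induction_on with
    | zero => simp
    | add a b ha hb => simp only [map_add, ha, hb]
    | tmul r w =>
      show σS (algebraMap R S r ⊗ₜ w) = mapLP (algebraMap R S) (σ (r ⊗ₜ w))
      induction w using AddMonoidAlgebra.induction_linear with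
      | zero => simp
      | add a b ha hb => simp only [TensorProduct.tmul_add, map_add, ha, hb]
      | single m s =>
        simp [σS, σ, Algebra.smul_def, -LaurentPolynomial.single_eq_C_mul_T, AddMonoidAlgebra.single_mul_single, IsScalarTower.algebraMap_apply k R S]
  let τ : S ⊗[k] LaurentPolynomial k ≃ₐ[R ⊗[k] LaurentPolynomial k] S[T;T⁻¹] :=
    AlgEquiv.ofRingEquiv (f := σS.toRingEquiv) hcomm
  obtain ⟨e⟩ := hsplit
  let e₁ : S[T;T⁻¹] ⊗[R ⊗[k] LaurentPolynomial k] N ≃ₗ[S[T;T⁻¹]] S[T;T⁻¹] :=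
    (TensorProduct.AlgebraTensorModule.cancelBaseChange (R ⊗[k] LaurentPolynomial k) R[T;T⁻¹] S[T;T⁻¹]
      S[T;T⁻¹] N).symm.trans e
  let e₂ := TensorProduct.congr τ.toLinearEquiv (LinearEquiv.refl (R ⊗[k] LaurentPolynomial k) N)
  have he₂ : ∀ c x, e₂ (c • x) = τ c • e₂ x := fun c x => by
    induction x using TensorProduct.induction_on with
    | zero => simp
    | add a b ha hb => simp only [smul_add, map_add, ha, hb]
    | tmul d n => simp [e₂, TensorProduct.smul_tmul']
  exact ⟨{ toFun := fun x => τ.symm (e₁ (e₂ x))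
           map_add' := fun x y => by simp only [map_add]
           map_smul' := fun c x => by
             rw [he₂, map_smul, smul_eq_mul, map_mul, AlgEquiv.symm_apply_apply]
             rfl
           invFun := fun y => e₂.symm (e₁.symm (τ y))
           left_inv := fun x => by simp
           right_inv := fun y => by simp }⟩

open Groth.L25.Bridge (P) in
theorem liftsLoc_Gm (p : ℕ) [Fact p.Prime] [CharP k p] :
    LiftsLoc (CGrpSh.pts AlgebraicGeometry.Scheme.fppfPrecoverage (P k (LaurentPolynomial k))) :=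
  liftsLoc_of_ring (ringPic_Gm k p) (ringCocycle_Gm k)

end Groth.L07.ExtShAff
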