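import Groth.Agent.L07.ExtShAff.Crit
import Groth.Agent.L07.GaExt.HomShAcyclic

/-!
# Local lifting for a group scheme from splitting invertible modules and symmetric cocycles
-/

universe u

open CategoryTheory CategoryTheory.Limits AlgebraicGeometry Opposite
open MonoidalCategory CartesianMonoidalCategory MonObj
open Groth.L07.GaExt (fn fn_comp sections_left_exact)
open Groth.L08.DoubleDual (restr)
open Groth.L07.ExtShGa (ofArrows_mem restr_app)

set_option autoImplicit false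
set_option backward.defeqAttrib.useBackward true
set_option backward.isDefEq.respectTransparency false
set_option backward.isDefEq.respectTransparency.types false
set_option linter.style.haveILetI false
set_option maxHeartbeats 1000000

noncomputable section

namespace Groth.L07.ExtShAff

local notation "Kf" => Scheme.fppfPrecoverage

variable {S : Scheme.{u}}

/-- sieves containing every affine test object over each member of a cover cover -/
theorem covering_of_affine {X : Over S} (L : Sieve X)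
    (h : ∀ (Y : Over S), IsAffine Y.left → ∀ b : Y ⟶ X, Sieve.pullback b L ∈ QuotSh.J Kf S Y) :
    L ∈ QuotSh.J Kf S X := by
  let 𝒰 := X.left.affineCover
  let V : 𝒰.I₀ → Over S := fun i => Over.mk (𝒰.f i ≫ X.hom)
  let j : ∀ i, V i ⟶ X := fun i => Over.homMk (𝒰.f i) rfl
  refine (QuotSh.J Kf S).transitive (ofArrows_mem V j (fun i => inferInstanceAs (Flat (𝒰.f i)))
    (fun i => inferInstanceAs (LocallyOfFinitePresentation (𝒰.f i))) fun x => ⟨_, 𝒰.covers x⟩) L ?_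
  rintro Y _ ⟨_, c, _, ⟨i⟩, rfl⟩
  rw [Sieve.pullback_comp]
  exact (QuotSh.J Kf S).pullback_stable c (h _ (inferInstanceAs (IsAffine (𝒰.X i))) _)

variable (G : Over S) [GrpObj G] [IsCommMonObj G]

/-- invertible modules on `X × G` are trivial locally on affine `X` -/
def SplitsPic : Prop :=
  ∀ X : Over S, IsAffine X.left → ∀ L : (X ⊗ G).left.Modules, PicF.IsInvertible L →
    ∃ Rs ∈ QuotSh.J Kf S X, ∀ ⦃X' : Over S⦄ (a : X' ⟶ X), Rs a →
      Nonempty ((Scheme.Modules.pullback (a ▷ G).left).obj L ≅ Coh.structureModule (X' ⊗ G).left)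

variable {G} in
/-- the value of a unit on `X × G × G` at points -/
def val2 {X W : Over S} (h : Γ((X ⊗ (G ⊗ G)).left, ⊤)ˣ) (b : W ⟶ X) (g g' : W ⟶ G) : Γ(W.left, ⊤)ˣ :=
  Units.map (fn (lift b (lift g g'))).hom.toMonoidHom h

variable {G} in
/-- the value of a unit on `X × G` at points -/
def val1 {X W : Over S} (f : Γ((X ⊗ G).left, ⊤)ˣ) (b : W ⟶ X) (g : W ⟶ G) : Γ(W.left, ⊤)ˣ :=
  Units.map (fn (lift b g)).hom.toMonoidHom f

/-- symmetric normalised cocycles over affine `X` are coboundaries locally on `X` -/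
def SplitsCocycle : Prop :=
  ∀ X : Over S, IsAffine X.left → ∀ h : Γ((X ⊗ (G ⊗ G)).left, ⊤)ˣ,
    (∀ (W : Over S) (b : W ⟶ X) (g g' : W ⟶ G), val2 h b g g' = val2 h b g' g) →
    (∀ (W : Over S) (b : W ⟶ X) (g : W ⟶ G), val2 h b 1 g = 1) →
    (∀ (W : Over S) (b : W ⟶ X) (g g' g'' : W ⟶ G),
      val2 h b g g' * val2 h b (g * g') g'' = val2 h b g' g'' * val2 h b g (g' * g'')) →
    ∃ Rs ∈ QuotSh.J Kf S X, ∀ ⦃X' : Over S⦄ (a : X' ⟶ X), Rs a → ∃ f : Γ((X' ⊗ G).left, ⊤)ˣ,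
      ∀ (W : Over S) (b : W ⟶ X') (g g' : W ⟶ G),
        val2 h (b ≫ a) g g' * (val1 f b g * val1 f b g') = val1 f b (g * g')

variable {G}

set_option maxHeartbeats 4000000 in
/-- local lifting for group schemes whose invertible modules and cocycles split -/
theorem liftsLoc_of_splits (hpic : SplitsPic G) (hcoc : SplitsCocycle G) : LiftsLoc (CGrpSh.pts Kf G) :=
  fun Sh hSh _ i₁ X₀ φ₀ => by
  refine ⟨liftSieve Sh.g φ₀, covering_of_affine _ fun X hX c => ?_, fun X' a ha => ha⟩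
  let φ := restr c φ₀
  let I := Sh.X₂.obj
  let Φ : ∀ {W : Over S}, (W ⟶ X) → (W ⟶ G) → Sh.X₃.obj.obj (op W) := fun {W} b g =>
    φ.hom.app (op (Over.mk b)) (ULift.up (Additive.ofMul g))
  have Φ_nat : ∀ {W W' : Over S} (t : W' ⟶ W) (b : W ⟶ X) (g : W ⟶ G),
      Sh.X₃.obj.map t.op (Φ b g) = Φ (t ≫ b) (t ≫ g) := fun {W W'} t b g =>
    (NatTrans.naturality_apply φ.hom (Over.homMk t rfl : Over.mk (t ≫ b) ⟶ Over.mk b).op
      (ULift.up (Additive.ofMul g))).symm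
  have Φ_add : ∀ {W : Over S} (b : W ⟶ X) (g g' : W ⟶ G), Φ b (g * g') = Φ b g + Φ b g' := fun {W} b g g' =>
    map_add (φ.hom.app (op (Over.mk b))).hom (ULift.up (Additive.ofMul g)) (ULift.up (Additive.ofMul g'))
  have Φ_one : ∀ {W : Over S} (b : W ⟶ X), Φ b 1 = 0 := fun {W} b => map_zero (φ.hom.app (op (Over.mk b))).hom
  obtain ⟨L, hL, -, hz⟩ := Groth.L07.ExtShGa.exists_module_of_section' i₁ hSh (T := X ⊗ G)
    (Φ (fst X G) (snd X G))
  obtain ⟨Rs, hRs, hR⟩ := hpic X hX L hL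
  refine (QuotSh.J Kf S).transitive hRs _ fun X₁ a₁ ha₁ => covering_of_affine _ fun X₂ hX₂ d => ?_
  let a : X₂ ⟶ X := d ≫ a₁
  obtain ⟨s, hs⟩ := (hz _ (a ▷ G)).2 (hR _ (Rs.downward_closed ha₁ d))
  rw [Φ_nat, whiskerRight_fst, whiskerRight_snd] at hs
  let o : X₂ ⟶ X₂ ⊗ G := lift (𝟙 X₂) 1
  let e : I.obj (op (X₂ ⊗ G)) := s - I.map (fst X₂ G).op (I.map o.op s)
  let at' : ∀ {W : Over S}, (W ⟶ X₂) → (W ⟶ G) → I.obj (op W) := fun b g => I.map (lift b g).op e
  have mm : ∀ {A B C : Over S} (f : A ⟶ B) (f' : B ⟶ C) (x : I.obj (op C)),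
      I.map f.op (I.map f'.op x) = I.map (f ≫ f').op x := fun f f' x => by
    rw [op_comp, Functor.map_comp, ConcreteCategory.comp_apply]
  have at_nat : ∀ {W W' : Over S} (t : W' ⟶ W) (b : W ⟶ X₂) (g : W ⟶ G),
      I.map t.op (at' b g) = at' (t ≫ b) (t ≫ g) := fun t b g => by
    show I.map t.op (I.map _ e) = I.map _ e
    rw [mm, comp_lift]
  have at_g : ∀ {W : Over S} (b : W ⟶ X₂) (g : W ⟶ G),
      Sh.g.hom.app (op W) (at' b g) = Φ (b ≫ a) g := fun {W} b g => by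
    show Sh.g.hom.app (op W) (I.map (lift b g).op (s - I.map (fst X₂ G).op (I.map o.op s))) = _
    rw [map_sub, mm, mm, map_sub, NatTrans.naturality_apply Sh.g.hom, NatTrans.naturality_apply Sh.g.hom, hs,
      Φ_nat, Φ_nat]
    have h1 : lift b g ≫ fst X₂ G ≫ a = b ≫ a := by rw [← Category.assoc, lift_fst]
    have h2 : ((lift b g ≫ fst X₂ G) ≫ o) ≫ fst X₂ G ≫ a = b ≫ a := by
      simp only [o, Category.assoc, lift_fst_assoc, Category.id_comp]
    have h3 : ((lift b g ≫ fst X₂ G) ≫ o) ≫ snd X₂ G = 1 := by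
      rw [Category.assoc, lift_snd, MonObj.comp_one]
    rw [h1, h2, h3, lift_snd, Φ_one, sub_zero]
  have at_one : ∀ {W : Over S} (b : W ⟶ X₂), at' b 1 = 0 := fun {W} b => by
    have hb : lift b (1 : W ⟶ G) = b ≫ o := by rw [comp_lift, Category.comp_id, MonObj.comp_one]
    show I.map (lift b (1 : W ⟶ G)).op (s - I.map (fst X₂ G).op (I.map o.op s)) = 0
    rw [map_sub, mm, mm, lift_fst, hb, sub_self]
  let κ : ∀ {W : Over S}, Γ(W.left, ⊤)ˣ → I.obj (op W) := fun {W} u =>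
    Sh.f.hom.app (op W) (i₁.inv.app (op W) (GmPts.sectOfUnit (T := op W) u))
  have κ_mul : ∀ {W : Over S} (u v : Γ(W.left, ⊤)ˣ), κ (u * v) = κ u + κ v := fun {W} u v => by
    show Sh.f.hom.app _ (i₁.inv.app _ _) = Sh.f.hom.app _ (i₁.inv.app _ _) + Sh.f.hom.app _ (i₁.inv.app _ _)
    rw [← map_add, ← map_add]
    rfl
  have κ_one : ∀ {W : Over S}, κ (1 : Γ(W.left, ⊤)ˣ) = 0 := fun {W} => by
    show Sh.f.hom.app _ (i₁.inv.app _ 0) = 0
    rw [map_zero, map_zero]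
  have κ_nat : ∀ {W W' : Over S} (t : W' ⟶ W) (u : Γ(W.left, ⊤)ˣ),
      I.map t.op (κ u) = κ (Units.map (fn t).hom.toMonoidHom u) := fun t u =>
    ((NatTrans.naturality_apply Sh.f.hom t.op _).symm).trans
      (congrArg (Sh.f.hom.app _) (NatTrans.naturality_apply i₁.inv t.op _).symm)
  have κ_inj : ∀ {W : Over S} {u v : Γ(W.left, ⊤)ˣ}, κ u = κ v → u = v := fun {W u v} h =>
    congrArg GmPts.unitOfSect (ConcreteCategory.injective_of_mono_of_preservesPullback (i₁.inv.app (op W))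
      ((sections_left_exact hSh W).1 h))
  have κ_g : ∀ {W : Over S} (u : Γ(W.left, ⊤)ˣ), Sh.g.hom.app (op W) (κ u) = 0 := fun {W} u => by
    show Sh.g.hom.app (op W) (Sh.f.hom.app (op W) _) = 0
    exact ConcreteCategory.congr_hom (NatTrans.congr_app (congrArg (fun m => m.hom) Sh.zero) (op W)) _
  let T₂ := X₂ ⊗ (G ⊗ G)
  let g₁ : T₂ ⟶ G := snd _ _ ≫ fst G G
  let g₂ : T₂ ⟶ G := snd _ _ ≫ snd G G
  let dd : I.obj (op T₂) := at' (fst _ _) (g₁ * g₂) - at' (fst _ _) g₁ - at' (fst _ _) g₂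
  have hdd : Sh.g.hom.app (op T₂) dd = 0 := by
    rw [map_sub, map_sub, at_g, at_g, at_g, Φ_add, sub_sub, sub_self]
  obtain ⟨x, hx⟩ := (sections_left_exact hSh T₂).2 dd hdd
  let h : Γ(T₂.left, ⊤)ˣ := GmPts.unitOfSect (i₁.hom.app (op T₂) x)
  have hκ : κ h = dd := by
    refine Eq.trans ?_ hx
    exact congrArg (Sh.f.hom.app (op T₂)) (ConcreteCategory.congr_hom (i₁.hom_inv_id_app (op T₂)) x)
  have hval : ∀ {W : Over S} (b : W ⟶ X₂) (g g' : W ⟶ G),
      κ (val2 h b g g') = at' b (g * g') - at' b g - at' b g' := fun {W} b g g' => by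
    rw [val2, ← κ_nat, hκ]
    show I.map _ (at' (fst _ _) (g₁ * g₂) - at' (fst _ _) g₁ - at' (fst _ _) g₂) = _
    rw [map_sub, map_sub, at_nat, at_nat, at_nat, lift_fst, MonObj.comp_mul,
      show lift b (lift g g') ≫ g₁ = g by simp [g₁], show lift b (lift g g') ≫ g₂ = g' by simp [g₂]]
  obtain ⟨Rs', hRs', hR'⟩ := hcoc X₂ hX₂ h
    (fun W b g g' => κ_inj (by
      rw [hval, hval, _root_.mul_comm g g']
      abel))
    (fun W b g => κ_inj (by rw [hval, κ_one, _root_.one_mul, at_one, sub_zero, sub_self]))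
    (fun W b g g' g'' => κ_inj (by
      rw [κ_mul, κ_mul, hval, hval, hval, hval, _root_.mul_assoc]
      abel))
  refine GrothendieckTopology.superset_covering _ (fun X' a' ha' => ?_) hRs'
  obtain ⟨f, hf⟩ := hR' a' ha'
  let Ψ : ∀ {W : Over S}, (W ⟶ X') → (W ⟶ G) → I.obj (op W) := fun b g => at' (b ≫ a') g - κ (val1 f b g)
  have Ψ_nat : ∀ {W W' : Over S} (t : W' ⟶ W) (b : W ⟶ X') (g : W ⟶ G),
      I.map t.op (Ψ b g) = Ψ (t ≫ b) (t ≫ g) := fun {W W'} t b g => by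
    show I.map t.op (_ - _) = at' _ _ - κ _
    rw [map_sub, at_nat, κ_nat, Category.assoc]
    congr 2
    refine Units.ext ?_
    show fn t (fn (lift b g) _) = fn (lift (t ≫ b) (t ≫ g)) _
    rw [← fn_comp, comp_lift]
  have Ψ_add : ∀ {W : Over S} (b : W ⟶ X') (g g' : W ⟶ G), Ψ b (g * g') = Ψ b g + Ψ b g' := fun {W} b g g' => by
    show at' _ _ - κ _ = (at' _ _ - κ _) + (at' _ _ - κ _)
    rw [← hf W b g g', κ_mul, κ_mul, hval]
    abel
  let ψ : (CGrpSh.pts Kf G).over X' ⟶ Sh.X₂.over X' :=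
    ⟨{ app := fun U => AddCommGrpCat.ofHom (AddMonoidHom.mk'
          (M := (CGrpSh.pts Kf G).obj.obj (op U.unop.left))
          (fun x : (CGrpSh.pts Kf G).obj.obj (op U.unop.left) => Ψ U.unop.hom (x.down.toMul : U.unop.left ⟶ G))
          fun x y => Ψ_add U.unop.hom (x.down.toMul : U.unop.left ⟶ G) (y.down.toMul : U.unop.left ⟶ G))
       naturality := fun U U' k => AddCommGrpCat.ext fun x => by
         show Ψ U'.unop.hom (k.unop.left ≫ (x.down.toMul : U.unop.left ⟶ G)) =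
           Sh.X₂.obj.map k.unop.left.op (Ψ U.unop.hom (x.down.toMul : U.unop.left ⟶ G))
         rw [Ψ_nat, Over.w k.unop] }⟩
  show ∃ ψ' : (CGrpSh.pts Kf G).over X' ⟶ Sh.X₂.over X',
    ψ' ≫ ((QuotSh.J Kf S).overPullback AddCommGrpCat X').map Sh.g = restr (((a' ≫ d) ≫ a₁) ≫ c) φ₀
  refine ⟨ψ, Sheaf.hom_ext (NatTrans.ext (funext fun U => AddCommGrpCat.ext fun x => ?_))⟩
  show Sh.g.hom.app (op U.unop.left) (at' (U.unop.hom ≫ a') (x.down.toMul : U.unop.left ⟶ G) - κ _) =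
    φ₀.hom.app (op (Over.mk (U.unop.hom ≫ (((a' ≫ d) ≫ a₁) ≫ c)))) x
  rw [map_sub, κ_g, sub_zero, at_g]
  show φ₀.hom.app (op (Over.mk (((U.unop.hom ≫ a') ≫ a) ≫ c))) x = _
  exact HomSh.app_over_mk_congr _ φ₀ (by simp only [a, Category.assoc]) x

end Groth.L07.ExtShAff
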