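import Groth.Agent.L07.ExtShGa.LineDescent
import Groth.Agent.L15.HensPic.Spec
import Groth.Agent.L01.LaurentExtend
import Groth.Agent.L01.PicLaurent
import Mathlib.RingTheory.PicardGroup

/-!
# Invertible modules over Laurent polynomial rings of henselian local rings in characteristic `p`
-/

universe u

open CategoryTheory AlgebraicGeometry Polynomial TensorProduct
open Groth.L14.PicSurj (FreeAt)
open L02.CAlg.Horrocks (toS toT exists_toT_eq toT_injective)
open L01.LaurentExtend (Ord exists_ord exists_approx exists_poly ι_toT ι_T s_mul s_zero)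
open Groth.L07.ExtShGa (Root origin)

set_option autoImplicit false
set_option backward.isDefEq.respectTransparency false
set_option linter.style.haveILetI false
set_option maxHeartbeats 800000

noncomputable section

namespace Groth.L07.ExtShAff

open scoped LaurentPolynomial

/-- invertible modules are locally free of rank one, elementwise -/
theorem exists_freeAt {R : Type u} [CommRing R] {M : Type u} [AddCommGroup M] [Module R M] [Module.Invertible R M]
    (q : PrimeSpectrum R) : ∃ s : R, s ∉ q.asIdeal ∧ ∃ n : M, FreeAt M s n := by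
  classical
  obtain ⟨S, hS⟩ := ((Module.Invertible.linearEquiv R M).symm 1).exists_finset
  have h1 : (1 : R) = ∑ i ∈ S, i.1 i.2 := by
    have := congrArg (Module.Invertible.linearEquiv R M) hS
    rw [LinearEquiv.apply_symm_apply, map_sum] at this
    simpa [Module.Invertible.linearEquiv] using this
  obtain ⟨i, hi, hiq⟩ : ∃ i ∈ S, i.1 i.2 ∉ q.asIdeal := by
    by_contra h
    push Not at h
    exact q.isPrime.ne_top ((Ideal.eq_top_iff_one _).2 (h1 ▸ Ideal.sum_mem _ h))
  refine ⟨_, hiq, i.2, fun x => ⟨1, i.1 x, ?_⟩, fun r hr => ⟨1, ?_⟩⟩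
  · rw [pow_one]
    exact L01.PicLaurent.smul_eq_smul_of_invertible i.1 i.2 x
  · have := congrArg i.1 hr
    rw [map_smul, map_zero, smul_eq_mul] at this
    rw [pow_one, mul_comm, this]

/-- a module locally free of rank one over a local ring is free -/
theorem nonempty_equiv_of_local {R : Type u} [CommRing R] [IsLocalRing R] (M : Type u) [AddCommGroup M] [Module R M]
    (h : ∀ q : PrimeSpectrum R, ∃ s : R, s ∉ q.asIdeal ∧ ∃ n : M, FreeAt M s n) : Nonempty (M ≃ₗ[R] R) := by
  obtain ⟨s, hs, n, hn1, hn2⟩ := h (IsLocalRing.closedPoint R)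
  have hu : IsUnit s := by
    by_contra hc
    exact hs hc
  refine ⟨(LinearEquiv.ofBijective (LinearMap.toSpanSingleton R M n) ⟨?_, fun x => ?_⟩).symm⟩
  · rw [injective_iff_map_eq_zero]
    intro r hr
    obtain ⟨k, hk⟩ := hn2 r hr
    exact (hu.pow k).mul_right_eq_zero.1 hk
  · obtain ⟨k, r, hr⟩ := hn1 x
    refine ⟨((hu.pow k).unit⁻¹ : Rˣ) * r, ?_⟩
    show (_ * r) • n = x
    rw [mul_smul, ← hr, smul_smul, IsUnit.val_inv_mul, one_smul]

variable (p : ℕ) [hp : Fact p.Prime]

/-- rank one modules on the line over a local ring with surjective Frobenius are free -/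
theorem nonempty_equiv_line (A : Type u) [CommRing A] [CharP A p] [IsLocalRing A]
    (hF : Function.Surjective (frobenius A p)) (P : Type u) [AddCommGroup P] [Module A[X] P]
    (h : ∀ q : PrimeSpectrum A[X], ∃ s : A[X], s ∉ q.asIdeal ∧ ∃ n : P, FreeAt P s n) :
    Nonempty (P ≃ₗ[A[X]] A[X]) := by
  let e : MvPolynomial (Fin 1) A ≃ₐ[A] A[X] := MvPolynomial.uniqueAlgEquiv A (Fin 1)
  letI : Module (MvPolynomial (Fin 1) A) P := Module.compHom P (e : MvPolynomial (Fin 1) A →+* A[X])
  let M : ModuleCat.{u} (CommRingCat.of (MvPolynomial (Fin 1) A)) := ModuleCat.of (MvPolynomial (Fin 1) A) P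
  have hM : ∀ q : PrimeSpectrum (MvPolynomial (Fin 1) A), ∃ s : MvPolynomial (Fin 1) A, s ∉ q.asIdeal ∧
      ∃ n : P, FreeAt P s n := fun q => by
    obtain ⟨s, hs, n, hn1, hn2⟩ := h (PrimeSpectrum.comap (e.symm : A[X] →+* MvPolynomial (Fin 1) A) q)
    refine ⟨e.symm s, hs, n, fun x => ?_, fun r hr => ?_⟩
    · obtain ⟨k, r, hr⟩ := hn1 x
      refine ⟨k, e.symm r, ?_⟩
      show e (e.symm s ^ k) • x = e (e.symm r) • n
      rw [map_pow, AlgEquiv.apply_symm_apply, AlgEquiv.apply_symm_apply, hr]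
    · obtain ⟨k, hk⟩ := hn2 (e r) hr
      refine ⟨k, e.injective ?_⟩
      rw [map_mul, map_pow, AlgEquiv.apply_symm_apply, hk, map_zero]
  have hinv : PicF.IsInvertible (tilde M) :=
    Groth.L15.HensPic.isInvertible_tilde (R := CommRingCat.of (MvPolynomial (Fin 1) A)) M hM
  have h0 : Nonempty ((Scheme.Modules.pullback (origin A)).obj (tilde M) ≅ Coh.structureModule _) := by
    obtain ⟨P₀, -, -, ⟨c⟩, hfree⟩ := Groth.L15.HensPic.exists_tilde (R := CommRingCat.of A) _
      (Groth.L18.Ample.isInvertible_pullback (origin A) hinv)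
    obtain ⟨e₀⟩ := nonempty_equiv_of_local (R := A) P₀ hfree
    obtain ⟨t⟩ := Groth.L15.HensPic.nonempty_tilde_iso (R := CommRingCat.of A)
      (P' := ModuleCat.of A A) e₀
    exact ⟨c.symm ≪≫ t ≪≫ tildeSelf⟩
  obtain ⟨i⟩ := Groth.L07.ExtShGa.nonempty_iso_polyOb p A hF hinv h0
  obtain ⟨g⟩ := Groth.L15.HensPic.nonempty_equiv_of_tilde_iso (R := CommRingCat.of (MvPolynomial (Fin 1) A))
    (P := M) (P' := ModuleCat.of (MvPolynomial (Fin 1) A) (MvPolynomial (Fin 1) A)) (i ≪≫ tildeSelf.symm)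
  exact ⟨{ toFun := fun x => e (g x)
           map_add' := fun x y => by rw [map_add, map_add]
           map_smul' := fun a x => by
             have : g (e.symm a • x) = e.symm a • g x := map_smul g _ x
             rw [RingHom.id_apply, smul_eq_mul,
               show a • x = e.symm a • x from (congrArg (· • x) (e.apply_symm_apply a)).symm, this, smul_eq_mul,
               map_mul, AlgEquiv.apply_symm_apply]
           invFun := fun a => g.symm (e.symm a)
           left_inv := fun x => by simp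
           right_inv := fun a => by simp }⟩

section Glue

variable {A : Type u} [CommRing A]

local notation "ι" => (L01.LaurentExtend.ι : LaurentPolynomial A →+* LaurentSeries A)

theorem exists_coe_of_ord {M : Matrix Unit Unit (LaurentSeries A)} {k : ℕ} (h : Ord (k : ℤ) M) :
    ∃ w : PowerSeries A, M () () = HahnSeries.ofPowerSeries ℤ A (PowerSeries.X ^ k * w) := by
  obtain ⟨q, hq⟩ := h
  refine ⟨q () (), ?_⟩
  rw [hq, Matrix.smul_apply, Matrix.map_apply, smul_eq_mul, map_mul, HahnSeries.ofPowerSeries_X_pow]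
  rfl

/-- finite sums can be approximated by Laurent polynomials -/
theorem exists_approx_sum {n : ℕ} (c w : Fin n → LaurentSeries A) :
    ∃ (a : Fin n → A[T;T⁻¹]) (q : PowerSeries A),
      ∑ i, ι (a i) * w i = (∑ i, c i * w i) + HahnSeries.ofPowerSeries ℤ A (PowerSeries.X * q) := by
  obtain ⟨r, hr⟩ := exists_ord (Matrix.of fun (_ : Unit) i => c i)
  obtain ⟨r', hr'⟩ := exists_ord (Matrix.of fun i (_ : Unit) => w i)
  obtain ⟨M', hM'⟩ := exists_approx (k := r' + 1) hr
  obtain ⟨q, hq⟩ := exists_coe_of_ord (k := 1) ((hM'.mul hr').mono (show ((1 : ℕ) : ℤ) ≤ _ by push_cast; omega))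
  refine ⟨fun i => M' () i, -q, ?_⟩
  rw [pow_one] at hq
  rw [mul_neg, map_neg, ← hq, Matrix.mul_apply]
  simp only [Matrix.sub_apply, Matrix.of_apply, Matrix.map_apply, sub_mul, Finset.sum_sub_distrib]
  ring

variable {L : Type u} [AddCommGroup L] [Module A[T;T⁻¹] L]

/-- the polynomial model of a module on the punctured line -/
def model (x : L) (f : A[X]) : AddSubgroup L where
  carrier := {y | ∃ (m : ℕ) (r : A[X]), toT (f ^ m) • y = toT r • x}
  zero_mem' := ⟨0, 0, by simp⟩
  add_mem' := by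
    rintro a b ⟨m, r, hr⟩ ⟨m', r', hr'⟩
    refine ⟨m + m', f ^ m' * r + f ^ m * r', ?_⟩
    rw [smul_add, pow_add, map_mul, map_add, map_mul, map_mul, add_smul, mul_smul, mul_smul, mul_smul,
      smul_comm (toT (f ^ m) : A[T;T⁻¹]) (toT (f ^ m')) a, hr, hr', mul_smul]
  neg_mem' := by
    rintro a ⟨m, r, hr⟩
    exact ⟨m, -r, by rw [smul_neg, hr, map_neg, neg_smul]⟩

/-- an invertible module on the punctured line which is free near the puncture is free, over local rings with
surjective Frobenius -/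
theorem nonempty_equiv_laurent [CharP A p] [IsLocalRing A] (hF : Function.Surjective (frobenius A p))
    [Module.Invertible A[T;T⁻¹] L] (θ : L →+ LaurentSeries A) (hθ : ∀ a y, θ (a • y) = ι a * θ y)
    (h1 : Ideal.span (Set.range θ) = ⊤) : Nonempty (L ≃ₗ[A[T;T⁻¹]] A[T;T⁻¹]) := by
  classical
  obtain ⟨n, s, hs⟩ := Module.Finite.exists_fin' A[T;T⁻¹] L
  obtain ⟨r, hr⟩ := Module.projective_lifting_property s LinearMap.id hs
  have hrs : ∀ y, ∑ i, r y i • s (Pi.single i 1) = y := fun y => by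
    rw [← Finset.sum_congr rfl (fun i _ => map_smul s (r y i) (Pi.single i 1)), ← map_sum, ← pi_eq_sum_univ']
    exact LinearMap.congr_fun hr y
  have hθs : ∀ y, θ y = ∑ i, ι (r y i) * θ (s (Pi.single i 1)) := fun y => by
    conv_lhs => rw [← hrs y]
    rw [map_sum]
    exact Finset.sum_congr rfl fun i _ => hθ _ _
  -- an element with unit value
  obtain ⟨c, hc⟩ : ∃ c : Fin n → LaurentSeries A, ∑ i, c i * θ (s (Pi.single i 1)) = 1 := by
    have hle : Ideal.span (Set.range θ) ≤ Ideal.span (Set.range fun i => θ (s (Pi.single i 1))) := by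
      rw [Ideal.span_le]
      rintro _ ⟨y, rfl⟩
      rw [hθs y]
      exact Ideal.sum_mem _ fun i _ => Ideal.mul_mem_left _ _ (Ideal.subset_span ⟨i, rfl⟩)
    exact (Submodule.mem_span_range_iff_exists_fun _).1 (hle (h1 ▸ Submodule.mem_top : (1 : LaurentSeries A) ∈ _))
  obtain ⟨a, q, ha⟩ := exists_approx_sum c fun i => θ (s (Pi.single i 1))
  rw [hc, ← map_one (HahnSeries.ofPowerSeries ℤ A), ← map_add] at ha
  let x : L := ∑ i, a i • s (Pi.single i 1)
  have hx : θ x = HahnSeries.ofPowerSeries ℤ A (1 + PowerSeries.X * q) := by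
    rw [map_sum, ← ha]
    exact Finset.sum_congr rfl fun i _ => hθ _ _
  obtain ⟨v, hv⟩ : IsUnit (1 + PowerSeries.X * q : PowerSeries A) :=
    PowerSeries.isUnit_iff_constantCoeff.2 (by simp)
  -- a functional with value near one at that element
  obtain ⟨b, q', hb⟩ := exists_approx_sum
    (fun i => HahnSeries.ofPowerSeries ℤ A ((v⁻¹ : (PowerSeries A)ˣ) : PowerSeries A) * θ (s (Pi.single i 1)))
    fun i => ι (r x i)
  let ψ : L →ₗ[A[T;T⁻¹]] A[T;T⁻¹] :=
    { toFun := fun y => ∑ i, r y i * b i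
      map_add' := fun y z => by simp [add_mul, Finset.sum_add_distrib]
      map_smul' := fun c y => by simp [Finset.mul_sum, mul_assoc] }
  have hψ : ι (ψ x) = HahnSeries.ofPowerSeries ℤ A (1 + PowerSeries.X * q') := by
    show ι (∑ i, r x i * b i) = _
    rw [map_sum, Finset.sum_congr rfl (fun i _ => by rw [map_mul, mul_comm]), hb, map_add]
    congr 1
    rw [Finset.sum_congr rfl (fun i _ => by rw [mul_assoc, mul_comm (θ _)]), ← Finset.mul_sum, ← hθs, hx, ← map_mul,
      ← hv, Units.inv_mul]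
  obtain ⟨f, hf, hfq⟩ := exists_poly _ _ hψ
  have hf0 : f.coeff 0 = 1 := by
    rw [← Polynomial.coeff_coe, hfq]
    simp
  have hψy : ∀ y, toT f • y = ψ y • x := fun y => by
    rw [hf]
    exact L01.PicLaurent.smul_eq_smul_of_invertible ψ x y
  -- the model on the line
  let P := model x f
  letI : Module A[X] L := Module.compHom L (toT : A[X] →ₐ[A] A[T;T⁻¹]).toRingHom
  let P' : Submodule A[X] L :=
    { P with
      smul_mem' := by
        rintro c y ⟨m, r, hr⟩
        refine ⟨m, c * r, ?_⟩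
        show toT (f ^ m) • (toT c • y) = _
        rw [smul_comm, hr, ← mul_smul, ← map_mul] }
  have hmem : ∀ y : L, ∃ j : ℕ, (LaurentPolynomial.T (j : ℤ) : A[T;T⁻¹]) • y ∈ P' := fun y => by
    obtain ⟨D, hD⟩ := exists_toT_eq (ψ y)
    obtain ⟨u, hu⟩ := hD D le_rfl
    refine ⟨D, 1, u, ?_⟩
    show toT (f ^ 1) • (LaurentPolynomial.T (D : ℤ) : A[T;T⁻¹]) • y = toT u • x
    rw [pow_one, smul_comm, hψy, ← mul_smul, hu]
  have hfree : ∀ 𝔭 : PrimeSpectrum A[X], ∃ s : A[X], s ∉ 𝔭.asIdeal ∧ ∃ n : P', FreeAt P' s n := fun 𝔭 => by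
    by_cases hf𝔭 : f ∈ 𝔭.asIdeal
    · have hX : (X : A[X]) ∉ 𝔭.asIdeal := fun hX => by
        refine 𝔭.isPrime.ne_top ((Ideal.eq_top_iff_one _).2 ?_)
        have := Ideal.sub_mem _ hf𝔭 (Ideal.mul_mem_right f.divX _ hX)
        rwa [show f - X * f.divX = 1 by
          conv_lhs => arg 1; rw [← X_mul_divX_add f, hf0]
          simp] at this
      obtain ⟨S, hS⟩ := ((Module.Invertible.linearEquiv A[T;T⁻¹] L).symm 1).exists_finset
      have hS1 : (1 : A[T;T⁻¹]) = ∑ i ∈ S, i.1 i.2 := by
        have := congrArg (Module.Invertible.linearEquiv A[T;T⁻¹] L) hS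
        rw [LinearEquiv.apply_symm_apply, map_sum] at this
        simpa [Module.Invertible.linearEquiv] using this
      choose D hD using fun i : Module.Dual A[T;T⁻¹] L × L => exists_toT_eq (i.1 i.2)
      let d := S.sup D
      choose g hg using fun i : S => hD i.1 d (Finset.le_sup i.2)
      have hsum : X ^ d = ∑ i : S, g i := by
        apply toT_injective
        rw [L02.CAlg.Horrocks.toT_X_pow, map_sum, Finset.sum_congr rfl (fun i _ => hg i), ← Finset.mul_sum,
          Finset.sum_coe_sort S (fun i => i.1 i.2), ← hS1, mul_one]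
      obtain ⟨i, hi⟩ : ∃ i : S, g i ∉ 𝔭.asIdeal := by
        by_contra hc
        push Not at hc
        exact hX (𝔭.isPrime.mem_of_pow_mem d (hsum ▸ Ideal.sum_mem _ fun i _ => hc i))
      obtain ⟨j, hj⟩ := hmem i.1.2
      refine ⟨X * g i, fun hc => (𝔭.isPrime.mem_or_mem hc).elim hX hi, ⟨_, hj⟩, fun y => ?_, fun r hr => ?_⟩
      · obtain ⟨D', hD'⟩ := exists_toT_eq (i.1.1 (y : L))
        obtain ⟨u, hu⟩ := hD' (D' + d + 1) (by omega)
        refine ⟨D' + j + 1, g i ^ (D' + j) * u, Subtype.ext ?_⟩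
        show toT ((X * g i) ^ (D' + j + 1)) • (y : L) =
          toT (g i ^ (D' + j) * u) • (LaurentPolynomial.T (j : ℤ) • i.1.2)
        rw [← mul_smul, mul_pow, map_mul, map_mul, pow_succ (g i), map_mul, hg i, hu, L02.CAlg.Horrocks.toT_X_pow,
          show LaurentPolynomial.T ((D' + j + 1 : ℕ) : ℤ) * (toT (g i ^ (D' + j)) * (LaurentPolynomial.T (d : ℤ) *
            i.1.1 i.1.2)) = LaurentPolynomial.T ((D' + j + 1 : ℕ) : ℤ) * toT (g i ^ (D' + j)) *
            LaurentPolynomial.T (d : ℤ) * i.1.1 i.1.2 by ring,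
          mul_smul _ (i.1.1 i.1.2), L01.PicLaurent.smul_eq_smul_of_invertible i.1.1 i.1.2 (y : L), ← mul_smul]
        congr 1
        simp only [Nat.cast_add, Nat.cast_one, LaurentPolynomial.T_add]
        ring
      · have hr' : (toT r * LaurentPolynomial.T (j : ℤ)) • i.1.2 = 0 :=
          (mul_smul _ _ _).trans (congrArg Subtype.val hr)
        have h2 := congrArg i.1.1 hr'
        rw [map_smul, map_zero, smul_eq_mul] at h2
        refine ⟨1, toT_injective ?_⟩
        rw [pow_one, map_zero, map_mul, map_mul, hg i,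
          show toT X * (LaurentPolynomial.T (d : ℤ) * i.1.1 i.1.2) * toT r =
            toT X * LaurentPolynomial.T (d : ℤ) * LaurentPolynomial.T (-(j : ℤ)) *
              (toT r * LaurentPolynomial.T (j : ℤ) * i.1.1 i.1.2) by
            have : (LaurentPolynomial.T (-(j : ℤ)) * LaurentPolynomial.T (j : ℤ) : A[T;T⁻¹]) = 1 := by
              rw [← LaurentPolynomial.T_add]; simp
            linear_combination (-(toT X * LaurentPolynomial.T (d : ℤ) * toT r * i.1.1 i.1.2)) * this,
          h2, mul_zero]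
    · refine ⟨f, hf𝔭, ⟨x, 0, 1, by simp⟩, fun y => ?_, fun r hr => ?_⟩
      · obtain ⟨m, r, hr⟩ := y.2
        exact ⟨m, r, Subtype.ext hr⟩
      · have h0 : toT r • x = 0 := congrArg Subtype.val hr
        have h2 := congrArg ψ h0
        rw [map_smul, map_zero, smul_eq_mul, ← hf, ← map_mul] at h2
        exact ⟨1, by rw [pow_one, mul_comm]; exact toT_injective (h2.trans (map_zero _).symm)⟩
  obtain ⟨e⟩ := nonempty_equiv_line p A hF P' hfree
  let g₀ : L := (e.symm 1 : P')
  refine ⟨(LinearEquiv.ofBijective (LinearMap.toSpanSingleton A[T;T⁻¹] L g₀) ⟨?_, fun y => ?_⟩).symm⟩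
  · rw [injective_iff_map_eq_zero]
    intro c hc
    replace hc : c • g₀ = 0 := hc
    obtain ⟨D, hD⟩ := exists_toT_eq c
    obtain ⟨u, hu⟩ := hD D le_rfl
    have hu0 : u • e.symm 1 = 0 := Subtype.ext (show toT u • g₀ = 0 by rw [hu, mul_smul, hc, smul_zero])
    rw [← map_smul, LinearEquiv.map_eq_zero_iff, smul_eq_mul, mul_one] at hu0
    rw [hu0, map_zero] at hu
    exact (LaurentPolynomial.isUnit_T (R := A) (D : ℤ)).mul_right_eq_zero.1 hu.symm
  · obtain ⟨j, hj⟩ := hmem y
    refine ⟨LaurentPolynomial.T (-(j : ℤ)) * toT (e ⟨_, hj⟩), ?_⟩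
    have : e ⟨_, hj⟩ • e.symm 1 = (⟨_, hj⟩ : P') := by
      rw [← map_smul, smul_eq_mul, mul_one, LinearEquiv.symm_apply_apply]
    show ((LaurentPolynomial.T (-(j : ℤ)) : A[T;T⁻¹]) * toT (e ⟨_, hj⟩)) • g₀ = y
    rw [mul_smul, show toT (e ⟨_, hj⟩) • g₀ = LaurentPolynomial.T (j : ℤ) • y from congrArg Subtype.val this,
      ← mul_smul, ← LaurentPolynomial.T_add, neg_add_cancel, LaurentPolynomial.T_zero, one_smul]

end Glue

/-- the map of Laurent series induced by a ring homomorphism -/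
def mapLS {R S : Type u} [CommRing R] [CommRing S] (φ : R →+* S) : LaurentSeries R →+* LaurentSeries S where
  toFun z := z.map φ
  map_one' := HahnSeries.map_one φ.toMonoidWithZeroHom
  map_mul' _ _ := HahnSeries.map_mul (φ : R →ₙ+* S)
  map_zero' := HahnSeries.ext (funext fun _ => map_zero φ)
  map_add' _ _ := HahnSeries.ext (funext fun _ => map_add φ _ _)

theorem mapLS_single {R S : Type u} [CommRing R] [CommRing S] (φ : R →+* S) (k : ℤ) (c : R) :
    mapLS φ (HahnSeries.single k c) = HahnSeries.single k (φ c) :=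
  (HahnSeries.map_single φ.toAddMonoidHom.toZeroHom).trans rfl

theorem mapLS_ι {R S : Type u} [CommRing R] [CommRing S] (φ : R →+* S) (a : LaurentPolynomial R) :
    mapLS φ (L01.LaurentExtend.ι a) = L01.LaurentExtend.ι (AddMonoidAlgebra.mapRingHom ℤ φ a) := by
  induction a using LaurentPolynomial.induction_on' with
  | add a b ha hb => simp only [map_add, ha, hb]
  | C_mul_T n c =>
    have hC : AddMonoidAlgebra.mapRingHom ℤ φ (LaurentPolynomial.C c) = LaurentPolynomial.C (φ c) :=
      AddMonoidAlgebra.mapRingHom_single φ _ _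
    have hT : AddMonoidAlgebra.mapRingHom ℤ φ (LaurentPolynomial.T n) = LaurentPolynomial.T n :=
      (AddMonoidAlgebra.mapRingHom_single φ _ _).trans (congrArg _ (map_one φ))
    simp only [map_mul, hC, hT, ι_T]
    congr 1
    · simp [L01.LaurentExtend.ι, mapLS_single, HahnSeries.ofPowerSeries_C, HahnSeries.C_apply]
    · exact (mapLS_single φ n 1).trans (congrArg _ (map_one φ))

theorem isLocalRing_root (H : Type u) [CommRing H] [IsLocalRing H] [CharP H p] : IsLocalRing (Root H p) := by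
  haveI : CharP (Root H p) p := Groth.L07.ExtShGa.charP_root
  haveI : Nontrivial (Root H p) := (Groth.L07.ExtShGa.algebraMap_injective (R := H) hp.out.pos).nontrivial
  refine IsLocalRing.of_isUnit_or_isUnit_one_sub_self fun x => ?_
  obtain ⟨K, h, hh⟩ := Groth.L07.ExtShGa.exists_pow_mem x
  have hK : p ^ K ≠ 0 := pow_ne_zero _ hp.out.ne_zero
  rcases IsLocalRing.isUnit_or_isUnit_one_sub_self h with hu | hu
  · exact Or.inl ((isUnit_pow_iff hK).1 (hh ▸ hu.map _))
  · refine Or.inr ((isUnit_pow_iff hK).1 ?_)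
    rw [sub_pow_char_pow, one_pow, ← hh, ← map_one (algebraMap H (Root H p)), ← map_sub]
    exact hu.map _

section Semilinear

variable {S T W : Type u} [CommRing S] [CommRing T] [CommRing W] [Algebra S T] {N : Type u} [AddCommGroup N] [Module S N]

/-- semilinear maps generating the unit ideal, from a trivialisation of the base change -/
theorem exists_semilinear (ω : T ⊗[S] N ≃ₗ[T] T) : ∃ ξ : N →+ T,
    (∀ (a : S) (m : N), ξ (a • m) = algebraMap S T a * ξ m) ∧ Ideal.span (Set.range ξ) = ⊤ := by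
  let ξ : N →+ T := ω.toLinearMap.toAddMonoidHom.comp (TensorProduct.mk S T N 1).toAddMonoidHom
  refine ⟨ξ, fun a m => ?_, (Ideal.eq_top_iff_one _).2 ?_⟩
  · show ω ((1 : T) ⊗ₜ[S] (a • m)) = _
    rw [tmul_smul, ← algebraMap_smul T a ((1 : T) ⊗ₜ[S] m), map_smul, smul_eq_mul]
    rfl
  · have h : ∀ z, ω z ∈ Ideal.span (Set.range ξ) := fun z => by
      induction z using TensorProduct.induction_on with
      | zero => rw [map_zero]; exact Ideal.zero_mem _
      | tmul c m =>
        rw [show (c ⊗ₜ[S] m) = c • ((1 : T) ⊗ₜ m) by rw [TensorProduct.smul_tmul', smul_eq_mul, mul_one], map_smul,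
          smul_eq_mul]
        exact Ideal.mul_mem_left _ _ (Ideal.subset_span ⟨m, rfl⟩)
      | add x y hx hy => rw [map_add]; exact Ideal.add_mem _ hx hy
    simpa using h (ω.symm 1)

/-- semilinear maps extend along base change -/
theorem exists_lift_semilinear (j : T →+* W) (ξ : N →+ W)
    (hξ : ∀ (a : S) (m : N), ξ (a • m) = j (algebraMap S T a) * ξ m) :
    ∃ θ : T ⊗[S] N →+ W, (∀ (c : T) z, θ (c • z) = j c * θ z) ∧ ∀ m, θ (1 ⊗ₜ m) = ξ m := by
  let θ : T ⊗[S] N →+ W := TensorProduct.liftAddHom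
    (AddMonoidHom.mk' (fun c => AddMonoidHom.mk' (fun y => j c * ξ y) fun y y' => by rw [map_add, mul_add])
      fun c c' => AddMonoidHom.ext fun y => by simp [add_mul])
    fun q c y => by
      show j (q • c) * ξ y = j c * ξ (q • y)
      rw [hξ, Algebra.smul_def, map_mul]
      ring
  refine ⟨θ, fun c z => ?_, fun m => ?_⟩
  · induction z using TensorProduct.induction_on with
    | zero => rw [smul_zero, map_zero, mul_zero]
    | tmul d y =>
      rw [TensorProduct.smul_tmul']
      show j (c * d) * ξ y = j c * (j d * ξ y)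
      rw [map_mul, mul_assoc]
    | add x y hx hy => rw [smul_add, map_add, map_add, hx, hy, mul_add]
  · show j 1 * ξ m = ξ m
    rw [map_one, one_mul]

/-- coordinates of a trivialisation of the base change -/
theorem exists_coords {n : ℕ} (s : (Fin n → S) →ₗ[S] N) (r : N →ₗ[S] (Fin n → S)) (hsr : ∀ y, s (r y) = y)
    (Ψ : T ⊗[S] N ≃ₗ[T] T) : ∃ u v : Fin n → T, ∑ i, u i * v i = 1 ∧
      ∀ i j, v i * u j = algebraMap S T (r (s (Pi.single j 1)) i) := by
  classical
  let rr : T ⊗[S] N →ₗ[T] (Fin n → T) :=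
    (TensorProduct.piScalarRight S T T (Fin n)).toLinearMap ∘ₗ r.baseChange T
  have hrr : ∀ y i, rr (1 ⊗ₜ y) i = algebraMap S T (r y i) := fun y i => by
    simp [rr, TensorProduct.piScalarRight_apply, Algebra.smul_def]
  have hrs : ∀ z, ∑ i, rr z i • ((1 : T) ⊗ₜ[S] s (Pi.single i 1)) = z := fun z => by
    induction z using TensorProduct.induction_on with
    | zero => simp
    | tmul c y =>
      rw [show (c ⊗ₜ[S] y) = c • ((1 : T) ⊗ₜ y) by rw [TensorProduct.smul_tmul', smul_eq_mul, mul_one]]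
      simp only [map_smul, Pi.smul_apply, smul_eq_mul, mul_smul, ← Finset.smul_sum, hrr]
      congr 1
      conv_rhs => rw [← hsr y, pi_eq_sum_univ' (r y), map_sum, tmul_sum]
      refine Finset.sum_congr rfl fun i _ => ?_
      rw [map_smul, tmul_smul, ← algebraMap_smul T (r y i)]
    | add a b ha hb => simp only [map_add, Pi.add_apply, add_smul, Finset.sum_add_distrib, ha, hb]
  refine ⟨fun j => Ψ (1 ⊗ₜ s (Pi.single j 1)), rr (Ψ.symm 1), ?_, fun i j => ?_⟩
  · have h := congrArg Ψ (hrs (Ψ.symm 1))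
    simp only [map_sum, map_smul, LinearEquiv.apply_symm_apply, smul_eq_mul] at h
    exact (Finset.sum_congr rfl fun i _ => mul_comm _ _).trans h
  · rw [mul_comm, ← smul_eq_mul, ← Pi.smul_apply, ← map_smul rr, ← map_smul Ψ.symm, smul_eq_mul, mul_one,
      LinearEquiv.symm_apply_apply, hrr]

end Semilinear

/-- the chart at infinity -/
def inftyLS (R : Type u) [CommRing R] : R[X] →+* LaurentSeries R :=
  Polynomial.eval₂RingHom HahnSeries.C (HahnSeries.single (-1 : ℤ) (1 : R))

theorem mapLS_inftyLS {R S : Type u} [CommRing R] [CommRing S] (φ : R →+* S) (q : R[X]) :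
    mapLS φ (inftyLS R q) = inftyLS S (q.map φ) := by
  induction q using Polynomial.induction_on' with
  | add a b ha hb => simp only [map_add, Polynomial.map_add, ha, hb]
  | monomial k c =>
    simp only [inftyLS, Polynomial.coe_eval₂RingHom, Polynomial.map_monomial, Polynomial.eval₂_monomial, map_mul,
      map_pow, HahnSeries.C_apply, mapLS_single, map_one]

/-- invertible modules on the punctured line over a henselian local ring of characteristic `p` become trivial
after adjoining all `p`-power roots -/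
theorem exists_split (H : Type u) [CommRing H] [HenselianLocalRing H] [CharP H p] (L : Type u) [AddCommGroup L]
    [Module H[T;T⁻¹] L] [Module.Invertible H[T;T⁻¹] L] {n : ℕ} (s : (Fin n → H[T;T⁻¹]) →ₗ[H[T;T⁻¹]] L)
    (r : L →ₗ[H[T;T⁻¹]] (Fin n → H[T;T⁻¹])) (hsr : ∀ y, s (r y) = y)
    (R' : Type u) [CommRing R'] [CharP R' p] [IsLocalRing R'] (hF : Function.Surjective (frobenius R' p))
    (φ : H →+* R') :
    ∃ u v : Fin n → R'[T;T⁻¹], ∑ i, u i * v i = 1 ∧ ∀ i j, v i * u j =
      AddMonoidAlgebra.mapRingHom ℤ φ (r (s (Pi.single j 1)) i) := by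
  classical
  let g : H[T;T⁻¹] →+* R'[T;T⁻¹] := AddMonoidAlgebra.mapRingHom ℤ φ
  letI algT : Algebra H[T;T⁻¹] (LaurentSeries H) := (L01.LaurentExtend.ι : H[T;T⁻¹] →+* LaurentSeries H).toAlgebra
  obtain ⟨θ₁, hθ₁, h1⟩ : ∃ θ₁ : L →+ LaurentSeries R',
      (∀ (c : H[T;T⁻¹]) (y : L), θ₁ (c • y) = L01.LaurentExtend.ι (g c) * θ₁ y) ∧
        Ideal.span (Set.range θ₁) = ⊤ := by
    letI algS : Algebra H[X] (LaurentSeries H) := RingHom.toAlgebra (inftyLS H)
    obtain ⟨M, iM1, iM2, iM3, ⟨eM⟩⟩ :=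
      L01.PicLaurent.exists_invertible (R := H) rfl (LaurentSeries H ⊗[H[T;T⁻¹]] L)
    obtain ⟨ξ, hξ, hξ1⟩ : ∃ ξ : M →+ R'[X], (∀ (a : H[X]) (m : M), ξ (a • m) = a.map φ * ξ m) ∧
        Ideal.span (Set.range ξ) = ⊤ := by
      letI algX : Algebra H[X] R'[X] := @RingHom.toAlgebra H[X] R'[X] _ _ (Polynomial.mapRingHom φ)
      obtain ⟨ω⟩ := nonempty_equiv_line p R' hF (R'[X] ⊗[H[X]] M) fun q => exists_freeAt q
      exact exists_semilinear ω
    obtain ⟨Φ, hΦ, hΦ1⟩ := exists_lift_semilinear (S := H[X]) (T := LaurentSeries H) (mapLS φ)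
      ((inftyLS R').toAddMonoidHom.comp ξ) fun a m => by
        show inftyLS _ (ξ (a • m)) = mapLS φ (inftyLS H a) * inftyLS _ (ξ m)
        rw [hξ, map_mul, mapLS_inftyLS]
    refine ⟨Φ.comp (eM.toLinearMap.toAddMonoidHom.comp (TensorProduct.mk H[T;T⁻¹] (LaurentSeries H) L 1).toAddMonoidHom),
      fun c y => ?_, (Ideal.eq_top_iff_one _).2 ?_⟩
    · show Φ (eM ((1 : LaurentSeries H) ⊗ₜ[H[T;T⁻¹]] (c • y))) = _
      rw [tmul_smul, ← algebraMap_smul (LaurentSeries H) c ((1 : LaurentSeries H) ⊗ₜ[H[T;T⁻¹]] y), map_smul, hΦ]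
      exact congrArg (· * _) (mapLS_ι φ c)
    · set J := Ideal.span (Set.range (Φ.comp (eM.toLinearMap.toAddMonoidHom.comp
        (TensorProduct.mk H[T;T⁻¹] (LaurentSeries H) L 1).toAddMonoidHom)))
      have hall : ∀ w : LaurentSeries H ⊗[H[T;T⁻¹]] L, Φ (eM w) ∈ J := fun w => by
        induction w using TensorProduct.induction_on with
        | zero => rw [map_zero, map_zero]; exact J.zero_mem
        | tmul c y =>
          rw [show eM (c ⊗ₜ y) = c • eM ((1 : LaurentSeries H) ⊗ₜ y) by rw [← map_smul, TensorProduct.smul_tmul', smul_eq_mul, mul_one],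
            hΦ]
          exact J.mul_mem_left _ (Ideal.subset_span ⟨y, rfl⟩)
        | add a b ha hb => rw [map_add, map_add]; exact J.add_mem ha hb
      have hle : (Ideal.span (Set.range ξ)).map (inftyLS R') ≤ J := by
        rw [Ideal.map_span, Ideal.span_le]
        rintro _ ⟨_, ⟨m, rfl⟩, rfl⟩
        have := hall (eM.symm (1 ⊗ₜ m))
        rwa [LinearEquiv.apply_symm_apply, hΦ1] at this
      rw [hξ1, Ideal.map_top] at hle
      exact hle trivial
  letI algG : Algebra H[T;T⁻¹] R'[T;T⁻¹] := @RingHom.toAlgebra H[T;T⁻¹] R'[T;T⁻¹] _ _ g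
  obtain ⟨θ, hθ, hθ1⟩ := exists_lift_semilinear (S := H[T;T⁻¹]) (T := R'[T;T⁻¹]) L01.LaurentExtend.ι θ₁ hθ₁
  obtain ⟨Ψ⟩ := nonempty_equiv_laurent p hF θ hθ (top_le_iff.1 (h1 ▸ Ideal.span_mono (by
    rintro _ ⟨y, rfl⟩
    exact ⟨_, hθ1 y⟩)))
  exact exists_coords s r hsr Ψ

/-- invertible modules on the punctured line over a henselian local ring split over its root closure -/
theorem exists_split_root (H : Type u) [CommRing H] [HenselianLocalRing H] [CharP H p] (L : Type u) [AddCommGroup L]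
    [Module H[T;T⁻¹] L] [Module.Invertible H[T;T⁻¹] L] {n : ℕ} (s : (Fin n → H[T;T⁻¹]) →ₗ[H[T;T⁻¹]] L)
    (r : L →ₗ[H[T;T⁻¹]] (Fin n → H[T;T⁻¹])) (hsr : ∀ y, s (r y) = y) :
    ∃ u v : Fin n → (Root H p)[T;T⁻¹], ∑ i, u i * v i = 1 ∧ ∀ i j, v i * u j =
      AddMonoidAlgebra.mapRingHom ℤ (algebraMap H (Root H p)) (r (s (Pi.single j 1)) i) :=
  haveI : CharP (Root H p) p := Groth.L07.ExtShGa.charP_root
  haveI := isLocalRing_root p H
  exists_split p H L s r hsr (Root H p) Groth.L07.ExtShGa.frobenius_surjective _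

end Groth.L07.ExtShAff
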