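import Groth.Agent.L07.ExtShAff.MultType
import Groth.Agent.L08.CharSurj

/-!
# The first Ext sheaf of an affine commutative group by the multiplicative group in positive characteristic
-/

universe u

open CategoryTheory CategoryTheory.Limits AlgebraicGeometry MonObj
open Groth.L25.Bridge (P)
open Groth.L01.SmoothKer (IsPrim)

set_option autoImplicit false
set_option backward.isDefEq.respectTransparency false
set_option backward.isDefEq.respectTransparency.types false
set_option linter.style.haveILetI false
set_option maxHeartbeats 1000000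

noncomputable section

namespace Groth.L07.ExtShAff

local notation "Kf" => Scheme.fppfPrecoverage

variable {k : Type u} [Field k]

/-- local lifting for every cocommutative Hopf algebra of finite type -/
theorem liftsLoc_hopf (p : ℕ) [Fact p.Prime] [CharP k p] {A : Type u} [CommRing A] [HopfAlgebra k A]
    [Algebra.FiniteType k A] [Coalgebra.IsCocomm k A] : LiftsLoc (CGrpSh.pts Kf (P k A)) := by
  suffices H : ∀ [Coalgebra.IsCocomm k A], LiftsLoc (CGrpSh.pts Kf (P k A)) from H
  refine quot_induction (k := k) (A := A)
    (fun Q hQ₁ hQ₂ => ∀ [Coalgebra.IsCocomm k Q], LiftsLoc (CGrpSh.pts Kf (@P k _ Q hQ₁ hQ₂))) ?_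
  intro Q _ _ _ _ π hπ hrec _
  by_cases hprim : ∀ g : Q, IsPrim (k := k) g → g = 0
  · exact liftsLoc_multType p hprim
  · push Not at hprim
    obtain ⟨g, hg, h0⟩ := hprim
    exact liftsLoc_of_prim p hg h0 fun Q' _ _ π' _ hπ' hne => hrec Q' π' hπ' hne

/-- local lifting for every affine commutative group of finite type -/
theorem liftsLoc_affine (p : ℕ) [Fact p.Prime] [CharP k p] (G : Over (Spec (CommRingCat.of k))) [GrpObj G]
    [IsCommMonObj G] [IsAffine G.left] [LocallyOfFiniteType G.hom] : LiftsLoc (CGrpSh.pts Kf G) := by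
  obtain ⟨B, _, _, _, e, he⟩ := Groth.L08.CharSurj.exists_P (H := G)
  haveI := he
  haveI := Groth.L08.CharSurj.isCocomm e
  haveI : IsMonHom e.inv := inferInstance
  refine liftsLoc_of_iso ?_ (liftsLoc_hopf p (A := B))
  exact
    { hom := CGrpSh.ptsMap Kf e.inv
      inv := CGrpSh.ptsMap Kf e.hom
      hom_inv_id := by
        rw [← CGrpSh.ptsMap_comp]
        simp only [Iso.inv_hom_id]
        exact CGrpSh.ptsMap_id _
      inv_hom_id := by
        rw [← CGrpSh.ptsMap_comp]
        simp only [Iso.hom_inv_id]
        exact CGrpSh.ptsMap_id _ }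

end Groth.L07.ExtShAff
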