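import Groth.Agent.L07.ExtShAff.GrpLift
import Groth.Agent.L15.HensPic.Spec
import Groth.Agent.L08.CharSurj
import Mathlib.RingTheory.PicardGroup

/-!
# Affine models for the obligations of the lifting criterion over a field
-/

universe u

open CategoryTheory CategoryTheory.Limits AlgebraicGeometry Opposite TensorProduct
open MonoidalCategory CartesianMonoidalCategory
open scoped MonObj
open Groth.L14.PicSurj (FreeAt)
open Groth.L07.GaExt (fn fn_comp fn_id)
open Groth.L08.TorusQuot (SP spA toPt ofPt toPt_post)
open Groth.L25.Bridge (P)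
open WithConv

set_option autoImplicit false
set_option backward.isDefEq.respectTransparency false
set_option backward.isDefEq.respectTransparency.types false
set_option linter.style.haveILetI false
set_option maxHeartbeats 1000000

noncomputable section

namespace Groth.L07.ExtShAff

/-- modules locally free of rank one are invertible -/
theorem invertible_of_freeAt {R : Type u} [CommRing R] (M : Type u) [AddCommGroup M] [Module R M] [Module.Finite R M]
    [Module.Projective R M] (h : ∀ q : PrimeSpectrum R, ∃ s : R, s ∉ q.asIdeal ∧ ∃ n : M, FreeAt M s n) :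
    Module.Invertible R M := by
  classical
  obtain ⟨m, π, hπ⟩ := Module.Finite.exists_fin' R M
  obtain ⟨r, hr⟩ := Module.projective_lifting_property π LinearMap.id hπ
  have hrep : ∀ x : M, x = ∑ i, r x i • π (Pi.single i 1) := fun x => by
    rw [← Finset.sum_congr rfl (fun i _ => map_smul π (r x i) (Pi.single i 1)), ← map_sum, ← pi_eq_sum_univ']
    exact (LinearMap.congr_fun hr x).symm
  have key : ∀ (g : M →ₗ[R] R) (x y : M), g y • x = g x • y := fun g x y => by
    rw [← sub_eq_zero]
    by_contra hne
    have hne' : Ideal.torsionOf R M (g y • x - g x • y) ≠ ⊤ := fun ht => hne <| by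
      have := (Ideal.mem_torsionOf_iff _ _).1 ((Ideal.eq_top_iff_one _).1 ht)
      rwa [one_smul] at this
    obtain ⟨q, hq, hle⟩ := Ideal.exists_le_maximal _ hne'
    obtain ⟨s, hs, n, hn1, -⟩ := h ⟨q, hq.isPrime⟩
    obtain ⟨kx, rx, hx⟩ := hn1 x
    obtain ⟨ky, ry, hy⟩ := hn1 y
    have hzero : s ^ (kx + ky) • (g y • x - g x • y) = 0 := by
      have e1 : s ^ (kx + ky) • g y • x = g (s ^ ky • y) • (s ^ kx • x) := by
        rw [map_smul, smul_eq_mul, smul_smul, smul_smul]
        congr 1
        ring
      have e2 : s ^ (kx + ky) • g x • y = g (s ^ kx • x) • (s ^ ky • y) := by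
        rw [map_smul, smul_eq_mul, smul_smul, smul_smul]
        congr 1
        ring
      rw [smul_sub, e1, e2, hx, hy, map_smul, map_smul, smul_eq_mul, smul_eq_mul, smul_smul, smul_smul, ← sub_smul]
      rw [show ry * g n * rx - rx * g n * ry = 0 by ring, zero_smul]
    exact hs (hq.isPrime.mem_of_pow_mem _ (hle ((Ideal.mem_torsionOf_iff _ _).2 hzero)))
  have hsurj : Function.Surjective (contractLeft R M) := by
    rw [← LinearMap.range_eq_top]
    by_contra hne
    obtain ⟨q, hq, hle⟩ := Ideal.exists_le_maximal (LinearMap.range (contractLeft R M)) hne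
    obtain ⟨s, hs, n, hn1, hn2⟩ := h ⟨q, hq.isPrime⟩
    choose k c hc using fun i => hn1 (π (Pi.single i 1))
    let N := Finset.univ.sup k
    let f : M →ₗ[R] R := ∑ i, (s ^ (N - k i) * c i) • (LinearMap.proj i ∘ₗ r)
    have hf : f n • n = s ^ N • n := by
      conv_rhs => rw [hrep n, Finset.smul_sum]
      simp only [f, LinearMap.sum_apply, LinearMap.smul_apply, LinearMap.comp_apply, LinearMap.proj_apply,
        smul_eq_mul, Finset.sum_smul]
      refine Finset.sum_congr rfl fun i _ => ?_
      rw [show s ^ (N - k i) * c i * r n i = r n i * s ^ (N - k i) * c i by ring, mul_smul, ← hc i, smul_smul,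
        smul_smul, mul_assoc, ← pow_add, Nat.sub_add_cancel (Finset.le_sup (f := k) (Finset.mem_univ i)), mul_comm]
    obtain ⟨j, hj⟩ := hn2 (f n - s ^ N) (by rw [sub_smul, hf, sub_self])
    have hfn : f n ∈ q := hle ⟨f ⊗ₜ n, contractLeft_apply f n⟩
    rw [mul_sub, sub_eq_zero] at hj
    exact hs (hq.isPrime.mem_of_pow_mem (j + N) (by rw [pow_add, ← hj]; exact Ideal.mul_mem_left _ _ hfn))
  obtain ⟨z₀, hz₀⟩ := hsurj 1
  have hcomm : ∀ z z' : Module.Dual R M ⊗[R] M, contractLeft R M z • z' = contractLeft R M z' • z := by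
    intro z z'
    induction z using TensorProduct.induction_on with
    | zero => simp
    | add a b ha hb => rw [map_add, add_smul, smul_add, ha, hb]
    | tmul g y =>
      induction z' using TensorProduct.induction_on with
      | zero => simp
      | add a b ha hb => rw [map_add, add_smul, smul_add, ha, hb]
      | tmul f x =>
        have hfun : f y • g = g y • f := LinearMap.ext fun w => by
          have := congrArg g (key f w y)
          rw [map_smul, map_smul, smul_eq_mul, smul_eq_mul] at this
          simp only [LinearMap.smul_apply, smul_eq_mul]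
          rw [this, mul_comm]
        rw [contractLeft_apply, contractLeft_apply, ← TensorProduct.tmul_smul (f x), key f y x,
          TensorProduct.tmul_smul, TensorProduct.smul_tmul', TensorProduct.smul_tmul', hfun]
  refine ⟨⟨fun z z' hzz => ?_, hsurj⟩⟩
  rw [← one_smul R z, ← one_smul R z', ← hz₀, hcomm, hcomm z₀ z', hzz]

/-- an invertible module on a spectrum, and its triviality after base change -/
theorem exists_module {R : Type u} [CommRing R] (L : (Spec (CommRingCat.of R)).Modules) (hL : PicF.IsInvertible L) :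
    ∃ (N : Type u) (_ : AddCommGroup N) (_ : Module R N), Module.Invertible R N ∧
      ∀ (S : Type u) [CommRing S] [Algebra R S], Nonempty (S ⊗[R] N ≃ₗ[S] S) →
        Nonempty ((Scheme.Modules.pullback (Spec.map (CommRingCat.ofHom (algebraMap R S)))).obj L ≅
          Coh.structureModule _) := by
  obtain ⟨N, hfin, hproj, ⟨c⟩, hfree⟩ := Groth.L15.HensPic.exists_tilde (R := CommRingCat.of R) L hL
  haveI := hfin
  haveI := hproj
  refine ⟨N, inferInstance, inferInstance, invertible_of_freeAt (R := R) N hfree, fun S _ _ ⟨e⟩ => ?_⟩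
  let φ : CommRingCat.of R ⟶ CommRingCat.of S := CommRingCat.ofHom (algebraMap R S)
  obtain ⟨e₂⟩ := Groth.L18.TildeF.extendScalars_equiv (R := R) (S := S) N
  obtain ⟨t⟩ := Groth.L15.HensPic.nonempty_tilde_iso (R := CommRingCat.of S)
    (P' := ModuleCat.of S S) (e₂ ≪≫ₗ e)
  exact ⟨(Scheme.Modules.pullback (Spec.map φ)).mapIso c.symm ≪≫
    (Groth.L18.TildeF.pullbackTildeIso φ).app N ≪≫ t ≪≫ tildeSelf⟩

section Over

variable {k : Type u} [Field k]

/-- affine objects are spectra -/
theorem exists_SP (X : Over (Spec (CommRingCat.of k))) (hX : IsAffine X.left) :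
    ∃ (R : Type u) (_ : CommRing R) (_ : Algebra k R), Nonempty (SP k R ≅ X) := by
  haveI := hX
  obtain ⟨φ, hφ⟩ : ∃ φ : CommRingCat.of k ⟶ Γ(X.left, ⊤), Spec.map φ = X.left.isoSpec.inv ≫ X.hom :=
    ⟨_, Spec.map_preimage _⟩
  letI : Algebra k Γ(X.left, ⊤) := φ.hom.toAlgebra
  exact ⟨Γ(X.left, ⊤), inferInstance, inferInstance, ⟨Over.isoMk X.left.isoSpec.symm hφ.symm⟩⟩

variable {R R' B C : Type u} [CommRing R] [Algebra k R] [CommRing R'] [Algebra k R'] [CommRing B] [Algebra k B]
  [CommRing C] [Algebra k C]

theorem spA_comp {D : Type u} [CommRing D] [Algebra k D] (φ : R →ₐ[k] B) (ψ : B →ₐ[k] D) :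
    spA ψ ≫ spA φ = spA (ψ.comp φ) :=
  Over.OverMorphism.ext (Spec.map_comp (CommRingCat.ofHom φ.toRingHom) (CommRingCat.ofHom ψ.toRingHom)).symm

/-- functions on a spectrum -/
abbrev em (R : Type u) [CommRing R] [Algebra k R] : R →+* Γ((SP k R).left, ⊤) :=
  (Scheme.ΓSpecIso (CommRingCat.of R)).inv.hom

theorem em_bijective : Function.Bijective (em (k := k) R) :=
  (Scheme.ΓSpecIso (CommRingCat.of R)).commRingCatIsoToRingEquiv.symm.bijective

theorem fn_spA (φ : R →ₐ[k] B) (x : R) : fn (spA φ) (em R x) = em B (φ x) :=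
  (ConcreteCategory.congr_hom (Scheme.ΓSpecIso_inv_naturality (CommRingCat.ofHom φ.toRingHom)) x).symm

/-- units on a spectrum come from units of the ring -/
theorem exists_unit_eq (h : Γ((SP k R).left, ⊤)ˣ) : ∃ u : Rˣ, Units.map (em R).toMonoidHom u = h := by
  let e := RingEquiv.ofBijective (em (k := k) R) em_bijective
  exact ⟨Units.map e.symm.toRingHom.toMonoidHom h, Units.ext (e.apply_symm_apply _)⟩

variable (k B C) in
/-- the comparison of a spectrum of a tensor product with the product -/
def prodSP : SP k (B ⊗[k] C) ⟶ SP k B ⊗ SP k C :=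
  lift (spA Algebra.TensorProduct.includeLeft) (spA Algebra.TensorProduct.includeRight)

theorem prodSP_left : (prodSP k B C).left = (pullbackSpecIso k B C).inv := by
  refine pullback.hom_ext ?_ ?_
  · refine Eq.trans ?_ (pullbackSpecIso_inv_fst k B C).symm
    exact congrArg CommaMorphism.left
      (lift_fst (spA (Algebra.TensorProduct.includeLeft : B →ₐ[k] B ⊗[k] C)) (spA Algebra.TensorProduct.includeRight))
  · refine Eq.trans ?_ (pullbackSpecIso_inv_snd k B C).symm
    exact congrArg CommaMorphism.left
      (lift_snd (spA (Algebra.TensorProduct.includeLeft : B →ₐ[k] B ⊗[k] C)) (spA Algebra.TensorProduct.includeRight))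

instance isIso_prodSP : IsIso (prodSP k B C) := by
  haveI : IsIso ((Over.forget _).map (prodSP k B C)) := by
    show IsIso (prodSP k B C).left
    rw [prodSP_left]
    infer_instance
  exact isIso_of_reflects_iso _ (Over.forget _)

theorem prodSP_fst : prodSP k B C ≫ fst _ _ = spA Algebra.TensorProduct.includeLeft := lift_fst _ _

theorem prodSP_snd : prodSP k B C ≫ snd _ _ = spA Algebra.TensorProduct.includeRight := lift_snd _ _

theorem prodSP_whisker (φ : R →ₐ[k] B) :
    spA (Algebra.TensorProduct.map φ (AlgHom.id k C)) ≫ prodSP k R C = prodSP k B C ≫ (spA φ ▷ SP k C) := by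
  refine CartesianMonoidalCategory.hom_ext _ _ ?_ ?_
  · rw [Category.assoc, Category.assoc, whiskerRight_fst, prodSP_fst, ← Category.assoc, prodSP_fst, spA_comp,
      spA_comp]
    exact congrArg spA (AlgHom.ext fun x => by simp)
  · rw [Category.assoc, Category.assoc, whiskerRight_snd, prodSP_snd, prodSP_snd, spA_comp]
    exact congrArg spA (AlgHom.ext fun x => by simp)

end Over

end Groth.L07.ExtShAff
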