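import Groth.Agent.L07.ExtShAff.Diag

/-!
# Forms of a group over a finite extension of the base field
-/

universe u

open CategoryTheory CategoryTheory.Limits AlgebraicGeometry Opposite TensorProduct
open MonoidalCategory CartesianMonoidalCategory
open scoped MonObj
open Groth.L07.ExtShGa (ofArrows_mem)
open Groth.L08.TorusQuot (SP spA toPt ofPt toPt_post)
open Groth.L25.Bridge (P)
open Algebra.TensorProduct (includeLeft includeRight)
open WithConv

set_option autoImplicit false
set_option backward.isDefEq.respectTransparency false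
set_option backward.isDefEq.respectTransparency.types false
set_option linter.style.haveILetI false
set_option maxHeartbeats 1000000
set_option synthInstance.maxHeartbeats 200000
set_option maxSynthPendingDepth 4

noncomputable section

namespace Groth.L07.ExtShAff

local notation "Kf" => Scheme.fppfPrecoverage

variable {k : Type u} [Field k] {k' : Type u} [CommRing k'] [Algebra k k']
  {A B : Type u} [CommRing A] [HopfAlgebra k A] [CommRing B] [HopfAlgebra k B]

/-- the map given by a twisted algebra map -/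
def twMap (q : B →ₐ[k] k' ⊗[k] A) : SP k k' ⊗ P k A ⟶ P k B := inv (prodSP k k' A) ≫ toPt (toConv q)

theorem twMap_toPt {R : Type u} [CommRing R] [Algebra k R] (q : B →ₐ[k] k' ⊗[k] A) (c : k' →ₐ[k] R) (z : A →ₐ[k] R) :
    lift (spA c) (toPt (toConv z) : SP k R ⟶ P k A) ≫ twMap q = toPt (toConv ((ev1 c z).comp q)) := by
  rw [lift1_eq, twMap, Category.assoc, IsIso.hom_inv_id_assoc]
  exact (toPt_post (ev1 c z) (toConv q)).symm

theorem twMap_inverse (q : B →ₐ[k] k' ⊗[k] A) (q' : A →ₐ[k] k' ⊗[k] B)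
    (h : (ev1 includeLeft q).comp q' = includeRight) {W : Over (Spec (CommRingCat.of k))} (s : W ⟶ SP k k')
    (t : W ⟶ P k A) : lift s (lift s t ≫ twMap q) ≫ twMap q' = t := by
  have h' : lift (fst (SP k k') (P k A)) (twMap q) ≫ twMap q' = snd _ _ := by
    have e : prodSP k k' A ≫ twMap q = toPt (toConv q) := IsIso.hom_inv_id_assoc _ _
    rw [← cancel_epi (prodSP k k' A), ← Category.assoc, comp_lift, prodSP_fst, e, twMap_toPt, h, prodSP_snd,
      toPt_eq_spA]
  conv_rhs => rw [← lift_snd s t, ← h', ← Category.assoc, comp_lift, lift_fst]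

theorem twMap_mul (q : B →ₐ[k] k' ⊗[k] A)
    (h : (ev1 includeLeft (mulPt ((includeRight : A ⊗[k] A →ₐ[k] k' ⊗[k] (A ⊗[k] A)).comp includeLeft)
        ((includeRight : A ⊗[k] A →ₐ[k] k' ⊗[k] (A ⊗[k] A)).comp includeRight))).comp q =
      mulPt ((ev1 includeLeft ((includeRight : A ⊗[k] A →ₐ[k] k' ⊗[k] (A ⊗[k] A)).comp includeLeft)).comp q)
        ((ev1 includeLeft ((includeRight : A ⊗[k] A →ₐ[k] k' ⊗[k] (A ⊗[k] A)).comp includeRight)).comp q))
    {W : Over (Spec (CommRingCat.of k))} (s : W ⟶ SP k k') (g g' : W ⟶ P k A) :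
    lift s (g * g') ≫ twMap q = (lift s g ≫ twMap q) * (lift s g' ≫ twMap q) := by
  let A₀ := k' ⊗[k] (A ⊗[k] A)
  let φ₀ : k' →ₐ[k] A₀ := includeLeft
  let x₀ : A →ₐ[k] A₀ := (includeRight : A ⊗[k] A →ₐ[k] A₀).comp includeLeft
  let y₀ : A →ₐ[k] A₀ := (includeRight : A ⊗[k] A →ₐ[k] A₀).comp includeRight
  have hid : ev2 φ₀ x₀ y₀ = AlgHom.id k A₀ :=
    Algebra.TensorProduct.ext (AlgHom.ext fun s => by simp [φ₀]; rfl)
      (Algebra.TensorProduct.ext (AlgHom.ext fun s => by simp [x₀]; rfl) (AlgHom.ext fun s => by simp [y₀]; rfl))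
  obtain ⟨t, hlift⟩ : ∃ t : W ⟶ SP k A₀,
      lift s (lift g g') = t ≫ lift (spA φ₀) (lift (toPt (toConv x₀)) (toPt (toConv y₀))) := by
    refine ⟨lift s (lift g g') ≫ inv (prod2 k A k'), ?_⟩
    rw [lift2_eq, hid, show spA (AlgHom.id k A₀) = 𝟙 _ from Over.OverMorphism.ext (Spec.map_id _), Category.id_comp]
    simp
  have hs : s = t ≫ spA φ₀ := by
    have := congrArg (· ≫ fst _ _) hlift
    simpa using this
  have hg : g = t ≫ toPt (toConv x₀) := by
    have := congrArg (fun m => (m ≫ snd _ _) ≫ fst _ _) hlift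
    simpa using this
  have hg' : g' = t ≫ toPt (toConv y₀) := by
    have := congrArg (fun m => (m ≫ snd _ _) ≫ snd _ _) hlift
    simpa using this
  rw [hs, hg, hg', ← MonObj.comp_mul, ← comp_lift, ← comp_lift, ← comp_lift, Category.assoc, Category.assoc,
    Category.assoc, ← MonObj.comp_mul, toPt_mulPt, twMap_toPt, twMap_toPt, twMap_toPt, toPt_mulPt]
  exact congrArg (fun z => t ≫ toPt (toConv z)) h

variable [Coalgebra.IsCocomm k A] [Coalgebra.IsCocomm k B]

/-- over an object mapping to the extension, a group and its form have isomorphic sheaves of points -/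
theorem nonempty_over_iso {X' : Over (Spec (CommRingCat.of k))} (a : X' ⟶ SP k k')
    (q : B →ₐ[k] k' ⊗[k] A) (q' : A →ₐ[k] k' ⊗[k] B)
    (h₁ : (ev1 includeLeft q).comp q' = includeRight) (h₂ : (ev1 includeLeft q').comp q = includeRight)
    (hmul : (ev1 includeLeft (mulPt ((includeRight : A ⊗[k] A →ₐ[k] k' ⊗[k] (A ⊗[k] A)).comp includeLeft)
        ((includeRight : A ⊗[k] A →ₐ[k] k' ⊗[k] (A ⊗[k] A)).comp includeRight))).comp q =
      mulPt ((ev1 includeLeft ((includeRight : A ⊗[k] A →ₐ[k] k' ⊗[k] (A ⊗[k] A)).comp includeLeft)).comp q)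
        ((ev1 includeLeft ((includeRight : A ⊗[k] A →ₐ[k] k' ⊗[k] (A ⊗[k] A)).comp includeRight)).comp q)) :
    Nonempty ((CGrpSh.pts Kf (P k A)).over X' ≅ (CGrpSh.pts Kf (P k B)).over X') := by
  refine ⟨(sheafToPresheaf _ _).preimageIso (NatIso.ofComponents (fun Y => AddEquiv.toAddCommGrpIso
    { toFun := fun t => ULift.up (Additive.ofMul (lift ((unop Y).hom ≫ a) t.down.toMul ≫ twMap q))
      invFun := fun t => ULift.up (Additive.ofMul (lift ((unop Y).hom ≫ a) t.down.toMul ≫ twMap q'))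
      left_inv := fun t => ULift.ext _ _ (congrArg Additive.ofMul (twMap_inverse q q' h₁ _ t.down.toMul))
      right_inv := fun t => ULift.ext _ _ (congrArg Additive.ofMul (twMap_inverse q' q h₂ _ t.down.toMul))
      map_add' := fun t t' => ULift.ext _ _ (congrArg Additive.ofMul
        (twMap_mul q hmul _ t.down.toMul t'.down.toMul)) }) ?_)⟩
  intro Y Y' f
  refine AddCommGrpCat.ext fun t => ULift.ext _ _ (congrArg Additive.ofMul ?_)
  show lift ((unop Y').hom ≫ a) (f.unop.left ≫ t.down.toMul) ≫ twMap q =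
    f.unop.left ≫ lift ((unop Y).hom ≫ a) t.down.toMul ≫ twMap q
  rw [← Category.assoc f.unop.left, comp_lift, Over.w_assoc]

/-- the projection from the product with a faithfully flat finitely presented algebra covers -/
theorem covers_fst [Module.FaithfullyFlat k k'] [Algebra.FinitePresentation k k'] (X : Over (Spec (CommRingCat.of k))) :
    Sieve.ofArrows (fun _ : PUnit.{1} => X ⊗ SP k k') (fun _ => fst X (SP k k')) ∈
      QuotSh.J Kf (Spec (CommRingCat.of k)) X := by
  refine covering_of_SP _ fun R _ _ b => ?_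
  obtain ⟨hfl, hfp⟩ := flat_fp_specMap (R := R) (S := R ⊗[k] k') inferInstance inferInstance
  refine GrothendieckTopology.superset_covering _ ?_ (ofArrows_mem (κ := PUnit.{1}) (fun _ => SP k (R ⊗[k] k'))
    (fun _ => spA (IsScalarTower.toAlgHom k R (R ⊗[k] k'))) (fun _ => hfl) (fun _ => hfp)
    fun x => ⟨PUnit.unit, PrimeSpectrum.comap_surjective_of_faithfullyFlat (B := R ⊗[k] k') x⟩)
  rintro Y _ ⟨_, d, _, ⟨⟩, rfl⟩
  refine Sieve.downward_closed _ ?_ d
  show Sieve.ofArrows _ _ (spA (IsScalarTower.toAlgHom k R (R ⊗[k] k')) ≫ b)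
  exact ⟨_, lift (spA (IsScalarTower.toAlgHom k R (R ⊗[k] k')) ≫ b) (spA includeRight), _, ⟨PUnit.unit⟩, lift_fst _ _⟩

/-- **forms of a group with local lifting have local lifting** -/
theorem liftsLoc_of_twisted [Module.FaithfullyFlat k k'] [Algebra.FinitePresentation k k']
    (q : B →ₐ[k] k' ⊗[k] A) (q' : A →ₐ[k] k' ⊗[k] B)
    (h₁ : (ev1 includeLeft q).comp q' = includeRight) (h₂ : (ev1 includeLeft q').comp q = includeRight)
    (hmul : (ev1 includeLeft (mulPt ((includeRight : A ⊗[k] A →ₐ[k] k' ⊗[k] (A ⊗[k] A)).comp includeLeft)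
        ((includeRight : A ⊗[k] A →ₐ[k] k' ⊗[k] (A ⊗[k] A)).comp includeRight))).comp q =
      mulPt ((ev1 includeLeft ((includeRight : A ⊗[k] A →ₐ[k] k' ⊗[k] (A ⊗[k] A)).comp includeLeft)).comp q)
        ((ev1 includeLeft ((includeRight : A ⊗[k] A →ₐ[k] k' ⊗[k] (A ⊗[k] A)).comp includeRight)).comp q))
    (h : LiftsLoc (CGrpSh.pts Kf (P k B))) : LiftsLoc (CGrpSh.pts Kf (P k A)) :=
  liftsLoc_of_locally fun X => ⟨_, covers_fst (k' := k') X, by
    rintro X' _ ⟨_, d, _, ⟨⟩, rfl⟩
    exact ⟨_, h, nonempty_over_iso (d ≫ snd _ _) q q' h₁ h₂ hmul⟩⟩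

end Groth.L07.ExtShAff
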